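import Groth.Agent.StCoh.K289.GerbProd

/-!
# Cohomology of constant sheaves on gerbes over a field with finite inertia
-/

set_option autoImplicit false
set_option backward.isDefEq.respectTransparency false
set_option backward.isDefEq.respectTransparency.types false

universe w v u

open CategoryTheory CategoryTheory.Limits CategoryTheory.Abelian AlgebraicGeometry Opposite
open K289.TorsSite K289.GerbAv

namespace K289.GerbCoh

section Abs

variable {C : Type (u + 1)} [Category.{u} C] {J : GrothendieckTopology C} [HasSheafify J AddCommGrpCat.{u + 1}]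
  [J.WEqualsLocallyBijective AddCommGrpCat.{u + 1}] [EnoughInjectives (Sheaf J AddCommGrpCat.{u + 1})]
  [HasExt.{w} (Sheaf J AddCommGrpCat.{u + 1})]

/-- an injective short exact sequence -/
theorem exists_ses (F : Sheaf J AddCommGrpCat.{u + 1}) : ∃ (I Q : Sheaf J AddCommGrpCat.{u + 1}) (α : F ⟶ I) (π : I ⟶ Q)
    (w : α ≫ π = 0), (ShortComplex.mk α π w).ShortExact ∧ Injective I :=
  ⟨Injective.under F, cokernel (Injective.ι F), Injective.ι F, cokernel.π _, cokernel.condition _,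
    { exact := ShortComplex.exact_of_g_is_cokernel _ (cokernelIsCokernel _)
      mono_f := by change Mono (Injective.ι F); infer_instance
      epi_g := by change Epi (cokernel.π _); infer_instance }, inferInstance⟩

variable {w₀ : C} {good conn : C → Prop} (p : Pt J w₀ good conn) {M : Type v} [AddCommGroup M]

include p in
theorem subsingleton_one {F : Sheaf J AddCommGrpCat.{u + 1}} (hM : ∀ (n : ℕ) (m : M), n ≠ 0 → n • m = 0 → m = 0)
    (c : CS J w₀ M F) : Subsingleton (Ext.{w} (ZJ J) F 1) := by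
  obtain ⟨I, Q, α, π, w, hS, hI⟩ := exists_ses F
  have : Injective (ShortComplex.mk α π w).X₂ := hI
  refine subsingleton_of_forall_eq 0 fun x => ?_
  obtain ⟨β, rfl⟩ := ExtShift.δ₀_surjective hS (ZJ J) x
  rw [ExtShift.δ₀_eq_zero_iff]
  exact h1 p hM hS c β

include p in
theorem subsingleton_two [Module ℚ M] {F : Sheaf J AddCommGrpCat.{u + 1}} (c : CS J w₀ M F) :
    Subsingleton (Ext.{w} (ZJ J) F 2) := by
  obtain ⟨I, Q, α, π, w, hS, hI⟩ := exists_ses F
  obtain ⟨I', Q', α', π', w', hS', hI'⟩ := exists_ses Q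
  have : Injective (ShortComplex.mk α π w).X₂ := hI
  have : Injective (ShortComplex.mk α' π' w').X₂ := hI'
  obtain ⟨e⟩ := ExtShift.nonempty_equiv hS (ZJ J) 0
  have h1 : Subsingleton (Ext.{w} (ZJ J) Q 1) := by
    refine subsingleton_of_forall_eq 0 fun x => ?_
    obtain ⟨β, rfl⟩ := ExtShift.δ₀_surjective hS' (ZJ J) x
    rw [ExtShift.δ₀_eq_zero_iff]
    exact h2 p α π α' π' w w' hS hS' c β
  exact e.symm.toEquiv.subsingleton

end Abs

section Gerbe

variable (k : Type u) [Field k] (𝒢 : AlgSt.Cat (Spec (CommRingCat.of k)))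
  (h𝒢 : AlgSt.IsAlgStack Scheme.fppfPrecoverage 𝒢)
  (hger : Gerb.IsGerbe (QuotSh.J Scheme.fppfPrecoverage (Spec (CommRingCat.of k))) 𝒢)
  (hI : AlgSt.RepByAlgSpWith AlgSp.IsFiniteMor (FibCat.inertiaToBase (FibCat.toSelf 𝒢)))

include h𝒢 hger hI

theorem exists_pt : ∃ w₀ : 𝒢.obj, Pt (StCoh.J Scheme.fppfPrecoverage 𝒢) w₀ GerbPt.good GerbPt.conn := by
  obtain ⟨w₀, ⟨e₀⟩⟩ := GerbPt.exists_w₀ h𝒢.isStack.1 hger.2.1
  exact ⟨w₀, GerbProd.pt h𝒢.isStack.1 hger.2.1 hger.2.2 (GerbeFin.finite_diag h𝒢 hger.2.2 hI) e₀⟩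

theorem subsingleton_H_one (M : Type) [AddCommGroup M] (hM : ∀ (n : ℕ) (m : M), n ≠ 0 → n • m = 0 → m = 0) :
    Subsingleton (StCoh.H Scheme.fppfPrecoverage (StCoh.const Scheme.fppfPrecoverage 𝒢 M) 1) := by
  obtain ⟨w₀, p⟩ := exists_pt k 𝒢 h𝒢 hger hI
  exact subsingleton_one p hM (csConst p.triv M)

theorem subsingleton_H_two (M : Type) [AddCommGroup M] [Module ℚ M] :
    Subsingleton (StCoh.H Scheme.fppfPrecoverage (StCoh.const Scheme.fppfPrecoverage 𝒢 M) 2) := by
  obtain ⟨w₀, p⟩ := exists_pt k 𝒢 h𝒢 hger hI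
  exact subsingleton_two p (csConst p.triv M)

end Gerbe

end K289.GerbCoh
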