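import Groth.Agent.StCoh.K289.PicFin

/-!
# Finiteness of `H¹(𝒢, G_m)` for a Deligne-Mumford gerbe over a field: conclusion
-/

set_option autoImplicit false
set_option backward.isDefEq.respectTransparency false
set_option backward.isDefEq.respectTransparency.types false
set_option linter.unusedSectionVars false

universe w v u

open CategoryTheory CategoryTheory.Limits CategoryTheory.Abelian AlgebraicGeometry Opposite
open K751.FG K289.GerbLoc K289.TorsSite K289.GerbAv K289.FieldSch K289.GerbPt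
open K289.PicCoc K289.PicAlg

namespace K289.PicFin

section Hom

variable {k : Type u} [Field k]

/-- finitely many geometric points -/
theorem finite_hom {T₀ T : Over (Spec (CommRingCat.of k))} (e₀ : T₀ ≅ G k) (h : IsFinite T.hom) : Finite (T₀ ⟶ T) := by
  have : IsFinite T.hom := h
  have : IsFinite (pullback.snd T.hom (gp k)) := inferInstance
  have := finite_sections (K := AlgebraicClosure k) (pullback.snd T.hom (gp k))
  refine Finite.of_injective (fun t : T₀ ⟶ T => (⟨pullback.lift (e₀.inv ≫ t).left (𝟙 _) (by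
    rw [Category.id_comp]; exact Over.w (e₀.inv ≫ t)), pullback.lift_snd _ _ _⟩ :
      {p : Spec (CommRingCat.of (AlgebraicClosure k)) ⟶ pullback T.hom (gp k) // p ≫ pullback.snd T.hom (gp k) = 𝟙 _}))
    fun t t' h => ?_
  have h1 := congrArg (fun p => p ≫ pullback.fst T.hom (gp k)) (congrArg Subtype.val h)
  simp only [pullback.lift_fst] at h1
  have h2 : e₀.inv ≫ t = e₀.inv ≫ t' := Over.OverMorphism.ext h1
  exact (cancel_epi e₀.inv).1 h2

end Hom

variable {k : Type u} [Field k] {𝒢 : AlgSt.Cat (Spec (CommRingCat.of k))} (hp : FibCat.IsFibGrpd 𝒢.p)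
  (hO : Gerb.LocSurjObj (QuotSh.J Scheme.fppfPrecoverage (Spec (CommRingCat.of k))) (FibCat.toSelf 𝒢))
  (hH : Gerb.LocSurjHom (QuotSh.J Scheme.fppfPrecoverage (Spec (CommRingCat.of k))) (FibCat.toSelf 𝒢))

variable {w₀ : 𝒢.obj} (e₀ : 𝒢.p.obj w₀ ≅ G k)

/-- the vertical automorphisms -/
def vert (w₀ : 𝒢.obj) : Subgroup (Aut w₀) where
  carrier := {g | 𝒢.p.map g.hom = 𝟙 _}
  mul_mem' {g h} hg hh := by
    change 𝒢.p.map (h.hom ≫ g.hom) = 𝟙 _
    rw [Functor.map_comp, show 𝒢.p.map g.hom = 𝟙 _ from hg, show 𝒢.p.map h.hom = 𝟙 _ from hh, Category.comp_id]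
  one_mem' := CategoryTheory.Functor.map_id _ _
  inv_mem' {g} hg := by
    change 𝒢.p.map g.inv = 𝟙 _
    have h1 : 𝒢.p.map g.inv ≫ 𝒢.p.map g.hom = 𝟙 _ := by
      rw [← Functor.map_comp, g.inv_hom_id, CategoryTheory.Functor.map_id]
    rwa [show 𝒢.p.map g.hom = 𝟙 _ from hg, Category.comp_id] at h1

include hp hO hH e₀ in
theorem finite_vert (hDM : AlgSt.IsDM Scheme.fppfPrecoverage 𝒢) (hqs : AlgSt.IsQuasiSeparatedOver 𝒢) :
    Finite (vert w₀) := by
  obtain ⟨V₀, hV₀⟩ := exists_conn hp hO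
  obtain ⟨E, _, _, V, b, ⟨e⟩, hV⟩ := exists_fieldObj hp hV₀
  obtain ⟨P, a₁, a₂, ha, hfin, het, hu⟩ := AutObj.aut_obj hDM hqs e
  have hV1 : IsFinite (𝒢.p.obj V).hom := hV.1
  obtain ⟨z₀⟩ := exists_over' hp hH e₀ V inferInstance hV.2.1
  have hPV : (𝒢.p.map a₁).left ≫ (𝒢.p.obj V).hom = (𝒢.p.obj P).hom := Over.w (𝒢.p.map a₁)
  have hP : IsFinite (𝒢.p.obj P).hom := by
    rw [← hPV]
    infer_instance
  have := finite_hom e₀ hP
  have hg : ∀ g : vert w₀, 𝒢.p.map z₀ = 𝒢.p.map (g.1.hom ≫ z₀) := fun g => by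
    rw [Functor.map_comp, show 𝒢.p.map g.1.hom = 𝟙 _ from g.2, Category.id_comp]
  choose h h1 h2 using fun g : vert w₀ => hu z₀ (g.1.hom ≫ z₀) (hg g)
  refine Finite.of_injective (fun g : vert w₀ => 𝒢.p.map (h g)) fun g g' hgg' => ?_
  have h3 : h g = h g' := cancel hp a₁ hgg' (by rw [h1, h1])
  have h4 : g.1.hom ≫ z₀ = g'.1.hom ≫ z₀ := by rw [← h2, ← h2, h3]
  have h5 : g.1.hom = g'.1.hom := cancel hp z₀ (Eq.trans (show 𝒢.p.map g.1.hom = 𝟙 _ from g.2)
    (show 𝒢.p.map g'.1.hom = 𝟙 _ from g'.2).symm) h4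
  exact Subtype.ext (Iso.ext h5)

section Gm

variable [StCoh.BaseCont Scheme.fppfPrecoverage 𝒢]

/-- vertical automorphisms act trivially on the units -/
theorem gm_map_of_vert {P : 𝒢.obj} {g : P ⟶ P} (hg : 𝒢.p.map g = 𝟙 _)
    (f : (StCoh.Gm Scheme.fppfPrecoverage 𝒢).obj.obj (op P)) : (StCoh.Gm Scheme.fppfPrecoverage 𝒢).obj.map g.op f = f := by
  refine toU_injective ?_
  rw [toU_map, hg]
  ext1
  exact congrArg (fun (t : Γ((𝒢.p.obj P).left, ⊤) →+* Γ((𝒢.p.obj P).left, ⊤)) => t (toU f))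
    (congrArg CommRingCat.Hom.hom (Scheme.Hom.id_appTop (X := (𝒢.p.obj P).left)))

theorem toU_nsmul {P : 𝒢.obj} (c : (StCoh.Gm Scheme.fppfPrecoverage 𝒢).obj.obj (op P)) (n : ℕ) :
    toU (n • c) = toU c ^ n := by
  induction n with
  | zero => rw [zero_nsmul, toU_zero, pow_zero]
  | succ n ih => rw [succ_nsmul, toU_add, ih, pow_succ]

include e₀ in
/-- finitely many torsion units -/
theorem finite_torsion {N : ℕ} (hN : N ≠ 0) :
    Finite {x : (StCoh.Gm Scheme.fppfPrecoverage 𝒢).obj.obj (op w₀) // N • x = 0} := by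
  have h0 : IsIntegral (𝒢.p.obj w₀).left := by
    have : IsIntegral (G k).left := inferInstanceAs (IsIntegral (Spec (CommRingCat.of (AlgebraicClosure k))))
    have : Nonempty (𝒢.p.obj w₀).left := ⟨e₀.inv.left (Classical.arbitrary (Spec (CommRingCat.of (AlgebraicClosure k))))⟩
    exact isIntegral_of_isOpenImmersion e₀.hom.left
  have : NeZero N := ⟨hN⟩
  have : Finite (rootsOfUnity N Γ((𝒢.p.obj w₀).left, ⊤)) := inferInstance
  refine Finite.of_injective (fun x : {x : (StCoh.Gm Scheme.fppfPrecoverage 𝒢).obj.obj (op w₀) // N • x = 0} =>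
    (⟨toU x.1, (mem_rootsOfUnity N _).2 (by rw [← toU_nsmul, x.2, toU_zero])⟩ : rootsOfUnity N Γ((𝒢.p.obj w₀).left, ⊤)))
    fun x y hxy => Subtype.ext (toU_injective (congrArg Subtype.val hxy))

variable {I Q : StCoh.Ab Scheme.fppfPrecoverage 𝒢} (α : StCoh.Gm Scheme.fppfPrecoverage 𝒢 ⟶ I) (π : I ⟶ Q) (w : α ≫ π = 0)
  (hS : (ShortComplex.mk α π w).ShortExact)

include hp e₀ hS in
theorem exists_lift₀ (q : ZJ (StCoh.J Scheme.fppfPrecoverage 𝒢) ⟶ Q) :
    ∃ j : I.obj.obj (op w₀), π.hom.app (op w₀) j = one q w₀ := by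
  obtain ⟨s, hs⟩ := triv' hp e₀ (lift_mem hS (one q w₀))
  refine ⟨s, ?_⟩
  have hs' : π.hom.app (op w₀) s = Q.obj.map (𝟙 w₀ : w₀ ⟶ w₀).op (one q w₀) := hs
  rw [one_map] at hs'
  exact hs'

include hS in
theorem exists_char (q : ZJ (StCoh.J Scheme.fppfPrecoverage 𝒢) ⟶ Q) (j : I.obj.obj (op w₀))
    (hj : π.hom.app (op w₀) j = one q w₀) (g : vert w₀) :
    ∃ c : (StCoh.Gm Scheme.fppfPrecoverage 𝒢).obj.obj (op w₀), α.hom.app (op w₀) c = I.obj.map g.1.hom.op j - j :=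
  ((exact_app hS w₀).2 _).1 (by
    change π.hom.app (op w₀) _ = 0
    rw [map_sub, nat_apply, hj, one_map, sub_self])

include hS in
theorem char_nsmul (j : I.obj.obj (op w₀)) (c : vert w₀ → (StCoh.Gm Scheme.fppfPrecoverage 𝒢).obj.obj (op w₀))
    (hc : ∀ g, α.hom.app (op w₀) (c g) = I.obj.map g.1.hom.op j - j) (g : vert w₀) :
    Nat.card (vert w₀) • c g = 0 := by
  have hinj : ∀ {t t' : (StCoh.Gm Scheme.fppfPrecoverage 𝒢).obj.obj (op w₀)},
      α.hom.app (op w₀) t = α.hom.app (op w₀) t' → t = t' := fun {t t'} h => (exact_app hS w₀).1 h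
  have h1 : c 1 = 0 := hinj (by
    rw [hc]
    change I.obj.map (𝟙 w₀ : w₀ ⟶ w₀).op j - j = _
    rw [op_id, CategoryTheory.Functor.map_id]
    change j - j = _
    rw [sub_self]
    exact (map_zero (α.hom.app (op w₀)).hom).symm)
  have h2 : ∀ g h, c (g * h) = c g + c h := fun g h => hinj (by
    have h3 := gm_map_of_vert (show 𝒢.p.map h.1.hom = 𝟙 _ from h.2) (c g)
    have h4 := nat_apply α.hom h.1.hom (c g)
    rw [h3, hc, map_sub, map_map_apply] at h4
    rw [hc]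
    refine Eq.trans ?_ (map_add (α.hom.app (op w₀)).hom (c g) (c h)).symm
    change I.obj.map (h.1.hom ≫ g.1.hom).op j - j = α.hom.app (op w₀) (c g) + α.hom.app (op w₀) (c h)
    rw [hc, hc, h4]
    abel)
  have h3 : ∀ n : ℕ, c (g ^ n) = n • c g := fun n => by
    induction n with
    | zero => rw [pow_zero, zero_nsmul, h1]
    | succ n ih => rw [pow_succ, h2, ih, succ_nsmul]
  rw [← h3, pow_card_eq_one', h1]

theorem one_sub (f g : ZJ (StCoh.J Scheme.fppfPrecoverage 𝒢) ⟶ Q) (W : 𝒢.obj) : one (f - g) W = one f W - one g W := by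
  rw [eq_sub_iff_add_eq, ← one_add, sub_add_cancel]

include hp hO hH e₀ in
theorem finite_H (hDM : AlgSt.IsDM Scheme.fppfPrecoverage 𝒢) (hqs : AlgSt.IsQuasiSeparatedOver 𝒢) :
    Finite (StCoh.H Scheme.fppfPrecoverage (StCoh.Gm Scheme.fppfPrecoverage 𝒢) 1) := by
  obtain ⟨I, Q, α, π, w, hS, hI⟩ := GerbCoh.exists_ses (StCoh.Gm Scheme.fppfPrecoverage 𝒢)
  have : Injective (ShortComplex.mk α π w).X₂ := hI
  have hvf := finite_vert hp hO hH e₀ hDM hqs
  have htf := finite_torsion (𝒢 := 𝒢) e₀ (N := Nat.card (vert w₀)) Nat.card_pos.ne'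
  choose β hβ using ExtShift.δ₀_surjective hS (ZJ (StCoh.J Scheme.fppfPrecoverage 𝒢))
  choose j hj using fun x => exists_lift₀ hp e₀ α π w hS (β x)
  choose c hc using fun x => exists_char α π w hS (β x) (j x) (hj x)
  refine Finite.of_injective (fun x => fun g : vert w₀ =>
    (⟨c x g, char_nsmul α π w hS (j x) (c x) (hc x) g⟩ :
      {y : (StCoh.Gm Scheme.fppfPrecoverage 𝒢).obj.obj (op w₀) // Nat.card (vert w₀) • y = 0})) fun x x' hxx' => ?_
  have h1 : ∀ g, c x g = c x' g := fun g => congrArg Subtype.val (congrFun hxx' g)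
  obtain ⟨t, ht⟩ := lift_of_inv hp hO hH e₀ α π w hS hDM hqs (β x - β x') (j x - j x') (by
    rw [map_sub, hj, hj, one_sub]) fun g hg => by
      have h0 : IsIso (𝒢.p.map g) := by rw [hg]; infer_instance
      have h0' : IsIso g := isIso_of_map hp g
      have h2 : α.hom.app (op w₀) (c x ⟨asIso g, hg⟩) = I.obj.map g.op (j x) - j x := hc x ⟨asIso g, hg⟩
      have h3 : α.hom.app (op w₀) (c x' ⟨asIso g, hg⟩) = I.obj.map g.op (j x') - j x' := hc x' ⟨asIso g, hg⟩
      rw [h1, h3] at h2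
      rw [map_sub]
      exact sub_eq_sub_iff_sub_eq_sub.2 h2.symm
  have h4 := (ExtShift.δ₀_eq_zero_iff hS (ZJ (StCoh.J Scheme.fppfPrecoverage 𝒢)) (β x - β x')).2 ⟨t, ht⟩
  rw [map_sub, hβ, hβ, sub_eq_zero] at h4
  exact h4

end Gm

end K289.PicFin
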