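import Groth.Agent.StCoh.K289.BGTors
import Groth.Agent.Magnet.K951.Pts
import Groth.Prelude.Def_ConstGrp
import Groth.Agent.Etrest.FppfMain3

/-!
# The constant group scheme `Spec (Γ → R)` has constant points
-/

set_option autoImplicit false
set_option backward.isDefEq.respectTransparency false
set_option backward.isDefEq.respectTransparency.types false

universe u

open CategoryTheory CategoryTheory.Limits MonoidalCategory CartesianMonoidalCategory MonObj GrpObj AlgebraicGeometry
open Opposite K750.TwistBG K951.Pts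

noncomputable section

namespace K289.ConstPts

attribute [local instance] K951.Pts.algΓ

theorem isUnit_basicOpen {X : Scheme.{u}} (f : Γ(X, ⊤)) : IsUnit ((X.basicOpen f).ι.appTop.hom f) := by
  have h1 : (X.basicOpen f : Scheme.{u}).basicOpen ((X.basicOpen f).ι.appTop f) = ⊤ := by
    have := Scheme.preimage_basicOpen (X.basicOpen f).ι f
    refine this.symm.trans ?_
    simp
  refine RingedSpace.isUnit_of_isUnit_germ _ _ _ (fun x hx => ?_)
  have h2 : x ∈ (X.basicOpen f : Scheme.{u}).basicOpen ((X.basicOpen f).ι.appTop f) := by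
    rw [h1]; trivial
  exact (Scheme.mem_basicOpen _ _ _ hx).1 h2

theorem eq_one_of_mul {C : Type*} [Category* C] [CartesianMonoidalCategory C] {G T : C} [GrpObj G] (x : T ⟶ G)
    (h : x = x * x) : x = 1 := mul_eq_left.1 h.symm

variable {R : Type u} [CommRing R] (Γ : Type) [Group Γ] [Fintype Γ] [DecidableEq Γ]

omit [Group Γ] [Fintype Γ] [DecidableEq Γ] in
/-- the constant point -/
def cpt (T : Over (Spec (CommRingCat.of R))) (γ : Γ) : T ⟶ CoactBr.sp R (ConstGrp.F R Γ) :=
  ofFn ((Algebra.ofId R _).comp (ConstGrp.ev R γ))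

variable {Γ}

omit [Group Γ] [Fintype Γ] in
theorem fn_cpt (T : Over (Spec (CommRingCat.of R))) (γ δ : Γ) :
    fn (cpt Γ T γ) (ConstGrp.e R δ) = if γ = δ then 1 else 0 := by
  rw [cpt, fn_ofFn]
  change algebraMap R _ (ConstGrp.ev R γ (ConstGrp.e R δ)) = _
  rw [ConstGrp.ev_apply, ConstGrp.e_apply]
  split_ifs <;> simp

omit [Group Γ] in
theorem ext_e {T : Over (Spec (CommRingCat.of R))} {g h : T ⟶ CoactBr.sp R (ConstGrp.F R Γ)}
    (H : ∀ δ : Γ, fn g (ConstGrp.e R δ) = fn h (ConstGrp.e R δ)) : g = h :=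
  fn_injective (ConstGrp.algHom_ext H)

theorem cpt_mul (T : Over (Spec (CommRingCat.of R))) (γ δ : Γ) : cpt Γ T (γ * δ) = cpt Γ T γ * cpt Γ T δ := by
  apply ext_e
  intro g
  rw [fn_cpt, fn_mul]
  change _ = Algebra.TensorProduct.lift (fn (cpt Γ T γ)) (fn (cpt Γ T δ)) (fun _ _ => .all _ _)
    (Coalgebra.comul (R := R) (ConstGrp.e R g))
  rw [ConstGrp.comul_e, map_sum]
  simp only [Algebra.TensorProduct.lift_tmul, fn_cpt, ite_mul, _root_.one_mul, zero_mul, Finset.sum_ite_eq, Finset.mem_univ,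
    if_true]
  congr 1
  rw [eq_inv_mul_iff_mul_eq]

omit [Group Γ] in
theorem comp_cpt {T T' : Over (Spec (CommRingCat.of R))} (f : T' ⟶ T) (γ : Γ) : f ≫ cpt Γ T γ = cpt Γ T' γ := by
  apply ext_e
  intro δ
  rw [fn_comp, fn_cpt, fn_cpt]
  split_ifs
  · rw [map_one]
  · rw [map_zero]

omit [Group Γ] in
theorem dec {T : Over (Spec (CommRingCat.of R))} (g : T ⟶ CoactBr.sp R (ConstGrp.F R Γ)) :
    ∃ R' ∈ QuotSh.J Scheme.fppfPrecoverage (Spec (CommRingCat.of R)) T, ∀ ⦃V : Over (Spec (CommRingCat.of R))⦄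
      (f : V ⟶ T), R' f → ∃ γ, f ≫ g = tm V ≫ cpt Γ _ γ := by
  let f (γ : Γ) : Γ(T.left, ⊤) := fn g (ConstGrp.e R γ)
  have hmul : ∀ γ δ, f γ * f δ = if δ = γ then f γ else 0 := fun γ δ => by
    rw [← map_mul, ConstGrp.e_mul_e]
    split_ifs
    · rfl
    · rw [map_zero]
  have hsum : ∑ γ : Γ, f γ = 1 := by
    rw [← map_sum, ConstGrp.sum_e, map_one]
  let R' : Sieve T :=
    { arrows := fun V k => ∃ γ : Γ, k ≫ g = tm V ≫ cpt Γ _ γ
      downward_closed := by
        rintro V W k ⟨γ, hγ⟩ l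
        refine ⟨γ, ?_⟩
        rw [Category.assoc, hγ, ← Category.assoc]
        congr 1
        exact tm_unique _ _ }
  refine ⟨R', ?_, fun V k hk => hk⟩
  have hR : R' ∈ EtFppf.J (Spec (CommRingCat.of R)) T := by
    rw [Groth.Agent.Etrest.BigEtSite.mem_J_iff]
    intro t
    have ht : ∃ γ, t ∈ T.left.basicOpen (f γ) := by
      by_contra h
      push Not at h
      have h1 : ∀ γ, T.left.presheaf.Γgerm t (f γ) ∈ IsLocalRing.maximalIdeal (T.left.presheaf.stalk t) := fun γ => by
        rw [IsLocalRing.mem_maximalIdeal, mem_nonunits_iff]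
        intro hu
        exact h γ ((T.left.mem_basicOpen_top (f γ) t).2 hu)
      have h2 : T.left.presheaf.Γgerm t 1 ∈ IsLocalRing.maximalIdeal (T.left.presheaf.stalk t) := by
        rw [← hsum, map_sum]
        exact Ideal.sum_mem _ fun γ _ => h1 γ
      rw [map_one] at h2
      exact (Ideal.ne_top_iff_one _).1 (IsLocalRing.maximalIdeal.isMaximal _).ne_top h2
    obtain ⟨γ, hγ⟩ := ht
    let V := T.left.basicOpen (f γ)
    let Vo : Over (Spec (CommRingCat.of R)) := Over.mk (V.ι ≫ T.hom)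
    let k : Vo ⟶ T := Over.homMk V.ι rfl
    refine ⟨Vo, k, ⟨γ, ?_⟩, inferInstanceAs (Flat V.ι), inferInstanceAs (LocallyOfFinitePresentation V.ι), ?_⟩
    · rw [comp_cpt]
      apply ext_e
      intro δ
      rw [fn_comp, fn_cpt]
      change V.ι.appTop (f δ) = _
      have hu : IsUnit (V.ι.appTop (f γ)) := isUnit_basicOpen (f γ)
      have h1 : V.ι.appTop (f γ) = 1 := by
        have h2 := congrArg (fun z => V.ι.appTop z) (hmul γ γ)
        simp only [if_true, map_mul] at h2
        exact hu.mul_left_cancel (h2.trans (_root_.mul_one _).symm)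
      by_cases h3 : γ = δ
      · subst h3
        rw [if_pos rfl, h1]
      · rw [if_neg h3]
        have h2 := congrArg (fun z => V.ι.appTop z) (hmul γ δ)
        simp only [if_neg (Ne.symm h3), map_mul, map_zero] at h2
        rw [h1, _root_.one_mul] at h2
        exact h2
    · exact ⟨⟨t, hγ⟩, rfl⟩
  exact hR

omit [Group Γ] [Fintype Γ] in
theorem inj {T : Over (Spec (CommRingCat.of R))} {γ δ : Γ} (h : cpt Γ T γ = cpt Γ T δ) :
    γ = δ ∨ ⊥ ∈ QuotSh.J Scheme.fppfPrecoverage (Spec (CommRingCat.of R)) T := by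
  by_cases hγ : γ = δ
  · exact Or.inl hγ
  · right
    have h1 := congrArg (fun k => fn k (ConstGrp.e R γ)) h
    simp only [fn_cpt, if_true, if_neg (Ne.symm hγ)] at h1
    have h2 : (⊥ : Sieve T) ∈ EtFppf.J (Spec (CommRingCat.of R)) T := by
      rw [Groth.Agent.Etrest.BigEtSite.mem_J_iff]
      intro t
      exfalso
      have h3 := congrArg (fun z => T.left.presheaf.Γgerm t z) h1
      simp only [map_one, map_zero] at h3
      exact one_ne_zero h3
    exact h2

/-- The constant points of the constant group. -/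
def cpts : BGTors.CPts (CoactBr.sp R (ConstGrp.F R Γ)) Γ (QuotSh.J Scheme.fppfPrecoverage (Spec (CommRingCat.of R))) where
  pt γ := cpt Γ _ γ
  mul γ δ := cpt_mul _ γ δ
  dec g := dec g
  inj {T} γ h := by
    rw [comp_cpt] at h
    have h1 : cpt Γ T 1 = cpt Γ T 1 * cpt Γ T 1 := by
      rw [← cpt_mul, _root_.mul_one]
    exact inj (h.trans (eq_one_of_mul _ h1).symm)

end K289.ConstPts
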