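import Groth.Agent.StCoh.K289.GrpCoch
import Mathlib.RepresentationTheory.Homological.GroupCohomology.Basic
import Mathlib.Algebra.Homology.ShortComplex.ModuleCat

/-!
# Mathlib's group cohomology through homogeneous cochains
-/

set_option autoImplicit false
set_option backward.isDefEq.respectTransparency false

universe u

open CategoryTheory CategoryTheory.Limits Groth.Agent.Etrest.FppfCoch

namespace K289.GrpCoch

variable {Γ : Type} [Group Γ] (A : Rep.{0} ℤ Γ)

/-- the action as a morphism to additive endomorphisms -/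
def rho : Γ →* AddMonoid.End A where
  toFun g := (A.ρ g).toAddMonoidHom
  map_one' := by
    rw [map_one]; rfl
  map_mul' g h := by
    rw [map_mul]; rfl

variable {A}

theorem rho_apply (g : Γ) (a : A) : rho A g a = A.ρ g a := rfl

theorem pp_succ {n : ℕ} (g : Fin (n + 1) → Γ) :
    (fun k => Fin.partialProd g ((0 : Fin (n + 2)).succAbove k)) =
      fun k => g 0 * Fin.partialProd (fun i => g i.succ) k := by
  funext k
  rw [Fin.succAbove_zero, Fin.partialProd_succ']
  rfl

theorem pp_contract {n : ℕ} (g : Fin (n + 1) → Γ) (j : Fin (n + 1)) :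
    (fun k => Fin.partialProd g (j.succ.succAbove k)) = Fin.partialProd (Fin.contractNth j (· * ·) g) := by
  rw [Fin.partialProd_contractNth]
  rfl

theorem d_eq_dS {n : ℕ} (z : (Fin (n + 1) → Γ) → A) (hz : Eqv (rho A) z) (g : Fin (n + 1) → Γ) :
    (inhomogeneousCochains.d A n).hom (fun x => z (Fin.partialProd x)) g = dS z (Fin.partialProd g) := by
  rw [inhomogeneousCochains.d_hom_apply, dS]
  conv_rhs => rw [Fin.sum_univ_succ]
  congr 1
  · rw [Fin.val_zero, pow_zero, one_smul, pp_succ, hz, rho_apply]
  · refine Finset.sum_congr rfl fun j _ => ?_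
    rw [pp_contract, Fin.val_succ]
    exact int_smul_eq_zsmul _ _ _

/-- the homogeneous cochain of an inhomogeneous one -/
def homog {n : ℕ} (f : (Fin n → Γ) → A) : (Fin (n + 1) → Γ) → A :=
  fun x => rho A (x 0) (f (fun i => (x i.castSucc)⁻¹ * x i.succ))

theorem eqv_homog {n : ℕ} (f : (Fin n → Γ) → A) : Eqv (rho A) (homog f) := by
  intro g x
  change rho A (g * x 0) (f (fun i => (g * x i.castSucc)⁻¹ * (g * x i.succ))) = _
  rw [map_mul]
  have : (fun i : Fin n => (g * x i.castSucc)⁻¹ * (g * x i.succ)) = fun i => (x i.castSucc)⁻¹ * x i.succ := by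
    funext i
    group
  rw [this]
  rfl

theorem homog_pp {n : ℕ} (f : (Fin n → Γ) → A) (g : Fin n → Γ) : homog f (Fin.partialProd g) = f g := by
  rw [homog, Fin.partialProd_zero, map_one]
  change f _ = f g
  congr 1
  funext i
  exact Fin.partialProd_right_inv g i

theorem eqv_ext {n : ℕ} {c c' : (Fin (n + 1) → Γ) → A} (hc : Eqv (rho A) c) (hc' : Eqv (rho A) c')
    (h : ∀ g : Fin n → Γ, c (Fin.partialProd g) = c' (Fin.partialProd g)) : c = c' := by
  funext x
  have hx : x = fun j => x 0 * Fin.partialProd (fun i : Fin n => (x i.castSucc)⁻¹ * x i.succ) j :=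
    (Fin.partialProd_left_inv x).symm
  rw [hx, hc, hc', h]

theorem π_eq_zero_iff {n : ℕ} (x : groupCohomology.cocycles A (n + 1)) :
    groupCohomology.π A (n + 1) x = 0 ↔
      ∃ y : (Fin n → Γ) → A, (inhomogeneousCochains.d A n).hom y = groupCohomology.iCocycles A (n + 1) x := by
  let K := groupCohomology.inhomogeneousCochains A
  have h1 : (ShortComplex.mk (K.toCycles n (n + 1)) (K.homologyπ (n + 1)) (by simp)).Exact :=
    ShortComplex.exact_of_g_is_cokernel _ (K.homologyIsCokernel n (n + 1) (by simp))
  rw [ShortComplex.moduleCat_exact_iff] at h1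
  have h2 : ∀ y, (K.iCycles (n + 1)) (K.toCycles n (n + 1) y) = (inhomogeneousCochains.d A n).hom y := fun y => by
    rw [← ConcreteCategory.comp_apply, HomologicalComplex.toCycles_i, groupCohomology.inhomogeneousCochains.d_def]
  constructor
  · intro h
    obtain ⟨y, hy⟩ := h1 x h
    exact ⟨y, by rw [← h2 y]; exact congrArg _ hy⟩
  · rintro ⟨y, hy⟩
    have hi : Function.Injective (K.iCycles (n + 1)) := (ModuleCat.mono_iff_injective _).1 inferInstance
    have h3 : K.toCycles n (n + 1) y = x := hi ((h2 y).trans hy)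
    have h4 : (K.toCycles n (n + 1) ≫ K.homologyπ (n + 1)) y = 0 := by
      rw [HomologicalComplex.toCycles_comp_homologyπ]; rfl
    rw [ConcreteCategory.comp_apply, h3] at h4
    exact h4

/-- Mathlib's group cohomology. -/
theorem comp_groupCohomology (n : ℕ) : Comp (rho A) n (groupCohomology A (n + 1)) := by
  have hd : ∀ z : Z (rho A) (n + 1), (inhomogeneousCochains.d A (n + 1)) (fun x => z.1 (Fin.partialProd x)) = 0 := by
    intro z
    funext g
    exact (d_eq_dS z.1 z.2.1 g).trans (z.2.2 _)
  let K := groupCohomology.inhomogeneousCochains A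
  have hi : Function.Injective (K.iCycles (n + 1)) := (ModuleCat.mono_iff_injective _).1 inferInstance
  let c : Z (rho A) (n + 1) → groupCohomology.cocycles A (n + 1) := fun z => groupCohomology.cocyclesMk _ (hd z)
  have hc : ∀ z, K.iCycles (n + 1) (c z) = fun x => z.1 (Fin.partialProd x) := fun z =>
    groupCohomology.iCocycles_mk _ (hd z)
  let φ : Z (rho A) (n + 1) →+ groupCohomology A (n + 1) := AddMonoidHom.mk' (fun z => groupCohomology.π A (n + 1) (c z)) (by
    intro z z'
    rw [← map_add]
    congr 1
    apply hi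
    rw [map_add, hc, hc, hc]
    rfl)
  refine ⟨φ, ?_, fun z => ?_⟩
  · intro e
    obtain ⟨x, rfl⟩ := (ModuleCat.epi_iff_surjective (groupCohomology.π A (n + 1))).1 inferInstance e
    let f : (Fin (n + 1) → Γ) → A := K.iCycles (n + 1) x
    have hf : (inhomogeneousCochains.d A (n + 1)).hom f = 0 := by
      have h1 : (K.iCycles (n + 1) ≫ K.d (n + 1) (n + 2)) x = 0 := by
        rw [HomologicalComplex.iCycles_d]; rfl
      rw [ConcreteCategory.comp_apply, groupCohomology.inhomogeneousCochains.d_def] at h1
      exact h1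
    have hf' : (fun x => homog f (Fin.partialProd x)) = f := funext fun g => homog_pp f g
    let z : Z (rho A) (n + 1) := ⟨homog f, eqv_homog f, fun x => by
      have h1 : dS (homog f) = fun _ => 0 := by
        refine eqv_ext (eqv_homog f).dS (fun g x => (map_zero (rho A g)).symm) fun g => ?_
        rw [← d_eq_dS _ (eqv_homog f), hf']
        exact congrFun hf g
      exact congrFun h1 x⟩
    refine ⟨z, ?_⟩
    change groupCohomology.π A (n + 1) (c z) = _
    congr 1
    apply hi
    rw [hc]
    exact hf'
  · change groupCohomology.π A (n + 1) (c z) = 0 ↔ _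
    rw [π_eq_zero_iff]
    constructor
    · rintro ⟨y, hy⟩
      have hy' : (inhomogeneousCochains.d A n).hom y = fun x => z.1 (Fin.partialProd x) := hy.trans (hc z)
      refine ⟨homog y, eqv_homog y, fun x => ?_⟩
      refine congrFun (eqv_ext (eqv_homog y).dS z.2.1 fun g => ?_) x
      rw [← d_eq_dS _ (eqv_homog y)]
      have : (fun x => homog y (Fin.partialProd x)) = y := funext fun g => homog_pp y g
      rw [this, hy']
    · rintro ⟨b, hb, hbz⟩
      refine ⟨fun x => b (Fin.partialProd x), ?_⟩
      refine Eq.trans ?_ (hc z).symm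
      funext g
      rw [d_eq_dS b hb, hbz]

end K289.GrpCoch
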