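import Groth.Agent.StCoh.K289.Loc
import Groth.Agent.Etrest.FppfMain3
import Groth.Agent.StCoh.K998.GmCA

/-!
# Étale-local Čech acyclicity over an object of a category fibred in groupoids
-/

set_option autoImplicit false
set_option backward.isDefEq.respectTransparency false
set_option backward.isDefEq.respectTransparency.types false

universe w v u

open CategoryTheory CategoryTheory.Limits AlgebraicGeometry Opposite
open Groth.Agent.Etrest.FppfMain Groth.Agent.Etrest.BigEtSite K289.Loc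

noncomputable section

namespace K289.LocCA

variable {S : Scheme.{u}} {𝒳 : AlgSt.Cat S} (h𝒳 : FibCat.IsFibGrpd 𝒳.p) (x : 𝒳.obj)

/-- the class of étale-locally Čech acyclic sheaves over `x` -/
def CAx (F : StCoh.Ab Scheme.fppfPrecoverage 𝒳) : Prop := CA ((loc Scheme.fppfPrecoverage h𝒳 x).obj F).obj

theorem step {T : ShortComplex (StCoh.Ab Scheme.fppfPrecoverage 𝒳)} (hT : T.ShortExact) (hI : Injective T.X₂)
    (h : CAx h𝒳 x T.X₁) : CAx h𝒳 x T.X₃ ∧ LocSurj ((loc Scheme.fppfPrecoverage h𝒳 x).map T.g).hom := by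
  have hS := shortExact_loc Scheme.fppfPrecoverage h𝒳 x hT
  have hI' := injective_loc Scheme.fppfPrecoverage h𝒳 x T.X₂
  let S' : ShortComplex (EtFppf.AbF (𝒳.p.obj x).left) := T.map (loc Scheme.fppfPrecoverage h𝒳 x)
  have hS' : S'.ShortExact := hS
  have hL := leftExact_of_shortExact hS'
  have hπ : Presheaf.IsLocallySurjective (EtFppf.J (𝒳.p.obj x).left) S'.g.hom := by
    have := hS'.epi_g
    exact (Sheaf.isLocallySurjective_iff_epi' (φ := S'.g)).2 this
  have hG : CA S'.X₁.obj := h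
  have hs := locSurj hL hG S'.X₂.property S'.X₃.property hπ
  have : Injective S'.X₂ := hI'
  have := injective_obj S'.X₂
  exact ⟨ca_quotient hL hG (fun E => Presieve.isSheaf_of_le _ (JE_le_J _) (S'.X₂.property E))
    (fun E => Presieve.isSheaf_of_le _ (JE_le_J _) (S'.X₃.property E)) hs, hs⟩

/-- Étale-locally surjective maps are surjective over a scheme all of whose étale coverings split. -/
theorem surjective_of_locSurj {X : Scheme.{u}} [Nonempty X]
    (hX : ∀ {V : Scheme.{u}} (g : V ⟶ X) [Etale g] [Nonempty V], ∃ s : X ⟶ V, s ≫ g = 𝟙 X)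
    {P Q : (Over X)ᵒᵖ ⥤ AddCommGrpCat.{u + 1}} (α : P ⟶ Q) (h : LocSurj α) :
    Function.Surjective (α.app (op (Over.mk (𝟙 X)))) := by
  intro q
  obtain ⟨t⟩ := ‹Nonempty X›
  obtain ⟨V, g, hg, ⟨v, -⟩, s, hs⟩ := h _ q t
  have : Nonempty V.left := ⟨v⟩
  obtain ⟨σ, hσ⟩ := hX g.left
  let σ' : Over.mk (𝟙 X) ⟶ V := Over.homMk σ (by
    have h1 := Over.w g
    rw [← h1, ← Category.assoc, hσ]
    rfl)
  have h2 : σ' ≫ g = 𝟙 _ := by
    ext
    exact hσ
  refine ⟨P.map σ'.op s, ?_⟩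
  rw [nat_apply, hs, map_map_apply, h2, op_id, Q.map_id]
  rfl

theorem surjective_step [Nonempty (𝒳.p.obj x).left]
    (hX : ∀ {V : Scheme.{u}} (g : V ⟶ (𝒳.p.obj x).left) [Etale g] [Nonempty V], ∃ s : (𝒳.p.obj x).left ⟶ V, s ≫ g = 𝟙 _)
    {T : ShortComplex (StCoh.Ab Scheme.fppfPrecoverage 𝒳)} (hT : T.ShortExact) (hI : Injective T.X₂)
    (h : CAx h𝒳 x T.X₁) : CAx h𝒳 x T.X₃ ∧ Function.Surjective (T.g.hom.app (op x)) := by
  obtain ⟨h1, h2⟩ := step h𝒳 x hT hI h
  exact ⟨h1, surjective_app Scheme.fppfPrecoverage h𝒳 x T.g (surjective_of_locSurj hX _ h2)⟩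

section Gm

variable [StCoh.BaseCont Scheme.fppfPrecoverage 𝒳]

/-- `G_m` restricted to the base of `x`. -/
def gmIso : ((loc Scheme.fppfPrecoverage h𝒳 x).obj (StCoh.Gm Scheme.fppfPrecoverage 𝒳)).obj ≅
    GmPts.unitsPre (𝒳.p.obj x).left :=
  (Functor.isoWhiskerLeft (jx h𝒳 x ⋙ 𝒳.p).op
    ((sheafToPresheaf _ _).mapIso (GmPts.gmShIso Scheme.fppfPrecoverage S))) ≪≫
  (Functor.isoWhiskerRight (NatIso.op (jxp h𝒳 x)).symm EtCoh.ΓUnits.{u} :)

/-- `G_m` is étale-locally Čech acyclic. -/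
theorem cax_gm : CAx h𝒳 x (StCoh.Gm Scheme.fppfPrecoverage 𝒳) :=
  CA.of_iso (gmIso h𝒳 x).symm (K998.GmCA.ca_units _)

end Gm

end K289.LocCA
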