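import Groth.Agent.StCoh.K289.TorsSite2
import Groth.Prelude.Def_GmPts2

/-!
# Hilbert 90 for the covering `Spec E → Spec k` (Čech form, any field extension)
-/

set_option autoImplicit false
set_option backward.isDefEq.respectTransparency false
set_option backward.isDefEq.respectTransparency.types false

universe w v u

open CategoryTheory CategoryTheory.Limits AlgebraicGeometry Opposite K289.TorsSite
open scoped TensorProduct

namespace K289.PicAlg

section Alg

variable {k E : Type u} [Field k] [Field E] [Algebra k E]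

/-- contraction of the first factor -/
noncomputable def con (l : E →ₗ[k] k) (M : Type u) [AddCommGroup M] [Module k M] : E ⊗[k] M →ₗ[k] M :=
  (TensorProduct.lid k M).toLinearMap ∘ₗ l.rTensor M

theorem con_tmul (l : E →ₗ[k] k) {M : Type u} [AddCommGroup M] [Module k M] (a : E) (m : M) :
    con l M (a ⊗ₜ m) = l a • m := rfl

variable (k E) in
noncomputable def i₁₂ : E ⊗[k] E →ₐ[k] E ⊗[k] (E ⊗[k] E) :=
  Algebra.TensorProduct.map (AlgHom.id k E) Algebra.TensorProduct.includeLeft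

variable (k E) in
noncomputable def i₁₃ : E ⊗[k] E →ₐ[k] E ⊗[k] (E ⊗[k] E) :=
  Algebra.TensorProduct.map (AlgHom.id k E) Algebra.TensorProduct.includeRight

variable (k E) in
noncomputable def i₂₃ : E ⊗[k] E →ₐ[k] E ⊗[k] (E ⊗[k] E) := Algebra.TensorProduct.includeRight

variable (k E) in
noncomputable def j₁ : E →ₐ[k] E ⊗[k] E := Algebra.TensorProduct.includeLeft

variable (k E) in
noncomputable def j₂ : E →ₐ[k] E ⊗[k] E := Algebra.TensorProduct.includeRight

theorem con_i₁₃ (l : E →ₗ[k] k) (x : E ⊗[k] E) : con l (E ⊗[k] E) (i₁₃ k E x) = j₂ k E (con l E x) := by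
  induction x using TensorProduct.induction_on with
  | zero => simp
  | tmul a b =>
    have h1 : i₁₃ k E (a ⊗ₜ b) = a ⊗ₜ ((1 : E) ⊗ₜ[k] b) := rfl
    have h2 : j₂ k E (l a • b) = (1 : E) ⊗ₜ[k] (l a • b) := rfl
    rw [h1, con_tmul, con_tmul, h2, TensorProduct.tmul_smul]
  | add x y hx hy => simp only [map_add, hx, hy]

theorem con_i₁₂ (l : E →ₗ[k] k) (x m : E ⊗[k] E) :
    con l (E ⊗[k] E) (i₁₂ k E x * i₂₃ k E m) = j₁ k E (con l E x) * m := by
  induction x using TensorProduct.induction_on with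
  | zero => simp
  | tmul a b =>
    have h1 : i₁₂ k E (a ⊗ₜ b) = a ⊗ₜ (b ⊗ₜ[k] (1 : E)) := rfl
    have h3 : i₂₃ k E m = (1 : E) ⊗ₜ[k] m := rfl
    have h2 : j₁ k E (l a • b) = (l a • b) ⊗ₜ[k] (1 : E) := rfl
    have h4 : (l a • b) ⊗ₜ[k] (1 : E) = l a • (b ⊗ₜ[k] (1 : E)) := (TensorProduct.smul_tmul' (l a) b (1 : E)).symm
    rw [h1, h3, Algebra.TensorProduct.tmul_mul_tmul, mul_one, con_tmul, con_tmul, h2, h4, smul_mul_assoc]
  | add x y hx hy => simp only [map_add, add_mul, hx, hy]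

open Classical in
/-- Hilbert 90 -/
theorem alg (U : (E ⊗[k] E)ˣ) (hU : i₁₂ k E U * i₂₃ k E U = i₁₃ k E U) :
    ∃ v : Eˣ, j₂ k E v = U * j₁ k E v := by
  let b := Module.Basis.ofVectorSpace k E
  have h1 : (TensorProduct.equivFinsuppOfBasisLeft (N := E) b) (U : E ⊗[k] E) ≠ 0 := by
    intro h
    have h2 : (U : E ⊗[k] E) = 0 := (LinearEquiv.map_eq_zero_iff _).1 h
    exact not_isUnit_zero (h2 ▸ U.isUnit)
  obtain ⟨i, hi⟩ := Finsupp.ne_iff.1 h1
  rw [TensorProduct.equivFinsuppOfBasisLeft_apply, Finsupp.coe_zero, Pi.zero_apply] at hi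
  have hv : con (b.coord i) E (U : E ⊗[k] E) ≠ 0 := hi
  refine ⟨Units.mk0 _ hv, ?_⟩
  rw [Units.val_mk0, ← con_i₁₃, ← hU, con_i₁₂, mul_comm]

end Alg

section Sch

variable {k : Type u} [Field k]

/-- affine schemes over `k` -/
noncomputable abbrev sA (A : Type u) [CommRing A] [Algebra k A] : Over (Spec (CommRingCat.of k)) :=
  Over.mk (Spec.map (CommRingCat.ofHom (algebraMap k A)))

/-- morphisms of affine schemes over `k` -/
noncomputable def sp {A B : Type u} [CommRing A] [Algebra k A] [CommRing B] [Algebra k B] (φ : A →ₐ[k] B) :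
    sA (k := k) B ⟶ sA A :=
  Over.homMk (Spec.map (CommRingCat.ofHom φ.toRingHom)) (by
    change Spec.map _ ≫ Spec.map _ = Spec.map _
    rw [← Spec.map_comp, ← CommRingCat.ofHom_comp]
    congr 2
    exact φ.comp_algebraMap)

theorem sp_comp {A B C : Type u} [CommRing A] [Algebra k A] [CommRing B] [Algebra k B] [CommRing C] [Algebra k C]
    (φ : A →ₐ[k] B) (ψ : B →ₐ[k] C) : sp (ψ.comp φ) = sp ψ ≫ sp φ := by
  ext1
  change Spec.map _ = Spec.map _ ≫ Spec.map _
  rw [← Spec.map_comp, ← CommRingCat.ofHom_comp]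
  rfl

/-- units as sections -/
noncomputable def un {A : Type u} [CommRing A] [Algebra k A] (a : Aˣ) :
    (GmPts.unitsPre (Spec (CommRingCat.of k))).obj (op (sA A)) :=
  GmPts.sectOfUnit (T := op (sA A)) (Units.map (Scheme.ΓSpecIso (CommRingCat.of A)).inv.hom.toMonoidHom a)

theorem un_mul {A : Type u} [CommRing A] [Algebra k A] (a b : Aˣ) : un (k := k) (a * b) = un a + un b := by
  rw [un, map_mul]
  rfl

theorem un_surjective {A : Type u} [CommRing A] [Algebra k A] (x : (GmPts.unitsPre (Spec (CommRingCat.of k))).obj (op (sA A))) :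
    ∃ a : Aˣ, un a = x := by
  refine ⟨Units.map (Scheme.ΓSpecIso (CommRingCat.of A)).hom.hom.toMonoidHom (GmPts.unitOfSect x), ?_⟩
  rw [un, ← GmPts.sectOfUnit_unitOfSect x]
  congr 1
  ext1
  exact ConcreteCategory.congr_hom (Scheme.ΓSpecIso (CommRingCat.of A)).hom_inv_id _

theorem un_injective {A : Type u} [CommRing A] [Algebra k A] {a b : Aˣ} (h : un (k := k) a = un b) : a = b := by
  have h1 := congrArg (fun x => (GmPts.unitOfSect x : _)) h
  have h2 : Units.map (Scheme.ΓSpecIso (CommRingCat.of A)).inv.hom.toMonoidHom a =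
    Units.map (Scheme.ΓSpecIso (CommRingCat.of A)).inv.hom.toMonoidHom b := h1
  ext1
  have h3 := congrArg (fun x : (Γ(Spec (CommRingCat.of A), ⊤))ˣ => (Scheme.ΓSpecIso (CommRingCat.of A)).hom.hom x) h2
  have h4 := fun x : A => ConcreteCategory.congr_hom (Scheme.ΓSpecIso (CommRingCat.of A)).inv_hom_id x
  exact (h4 a).symm.trans (h3.trans (h4 b))

theorem map_un {A B : Type u} [CommRing A] [Algebra k A] [CommRing B] [Algebra k B] (φ : A →ₐ[k] B) (a : Aˣ) :
    (GmPts.unitsPre (Spec (CommRingCat.of k))).map (sp φ).op (un a) = un (Units.map φ.toMonoidHom a) := by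
  have h1 : Units.map (sp φ).left.appTop.hom.toMonoidHom (Units.map (Scheme.ΓSpecIso (CommRingCat.of A)).inv.hom.toMonoidHom a) =
      Units.map (Scheme.ΓSpecIso (CommRingCat.of B)).inv.hom.toMonoidHom (Units.map φ.toMonoidHom a) := by
    ext1
    exact (ConcreteCategory.congr_hom (Scheme.ΓSpecIso_inv_naturality (CommRingCat.ofHom φ.toRingHom)) (a : A)).symm
  exact congrArg (GmPts.sectOfUnit (T := op (sA (k := k) B))) h1

variable {E : Type u} [Field E] [Algebra k E]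

/-- maps to the product -/
theorem exists_pair {T : Over (Spec (CommRingCat.of k))} (t₁ t₂ : T ⟶ sA E) :
    ∃ r : T ⟶ sA (E ⊗[k] E), r ≫ sp (j₁ k E) = t₁ ∧ r ≫ sp (j₂ k E) = t₂ := by
  let r₀ : T.left ⟶ Spec (CommRingCat.of (E ⊗[k] E)) :=
    pullback.lift t₁.left t₂.left ((Over.w t₁).trans (Over.w t₂).symm) ≫ (pullbackSpecIso k E E).hom
  have h1 : r₀ ≫ Spec.map (CommRingCat.ofHom (j₁ k E).toRingHom) = t₁.left := by
    have h2 : (pullbackSpecIso k E E).hom ≫ Spec.map (CommRingCat.ofHom (j₁ k E).toRingHom) = pullback.fst _ _ :=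
      pullbackSpecIso_hom_fst k E E
    rw [Category.assoc, h2]
    exact pullback.lift_fst _ _ _
  have h3 : r₀ ≫ Spec.map (CommRingCat.ofHom (j₂ k E).toRingHom) = t₂.left := by
    have h2 : (pullbackSpecIso k E E).hom ≫ Spec.map (CommRingCat.ofHom (j₂ k E).toRingHom) = pullback.snd _ _ :=
      pullbackSpecIso_hom_snd k E E
    rw [Category.assoc, h2]
    exact pullback.lift_snd _ _ _
  have h4 : r₀ ≫ (sA (k := k) (E ⊗[k] E)).hom = T.hom := by
    rw [← Over.w (sp (j₁ k E)), ← Category.assoc]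
    change (r₀ ≫ Spec.map _) ≫ _ = _
    rw [h1]
    exact Over.w t₁
  exact ⟨Over.homMk r₀ h4, Over.OverMorphism.ext h1, Over.OverMorphism.ext h3⟩

/-- Hilbert 90, Čech form -/
theorem cob {W : Over (Spec (CommRingCat.of k))} (e : W ≅ sA E)
    (d : ∀ {T : Over (Spec (CommRingCat.of k))} (_ _ : T ⟶ W), (GmPts.unitsPre (Spec (CommRingCat.of k))).obj (op T))
    (hn : ∀ {T T' : Over (Spec (CommRingCat.of k))} (g : T' ⟶ T) (t₁ t₂ : T ⟶ W),
      (GmPts.unitsPre (Spec (CommRingCat.of k))).map g.op (d t₁ t₂) = d (g ≫ t₁) (g ≫ t₂))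
    (hd : ∀ {T : Over (Spec (CommRingCat.of k))} (t₁ t₂ t₃ : T ⟶ W), d t₁ t₂ + d t₂ t₃ = d t₁ t₃) :
    ∃ v : (GmPts.unitsPre (Spec (CommRingCat.of k))).obj (op W), ∀ {T : Over (Spec (CommRingCat.of k))} (t₁ t₂ : T ⟶ W),
      d t₁ t₂ = (GmPts.unitsPre (Spec (CommRingCat.of k))).map t₂.op v -
        (GmPts.unitsPre (Spec (CommRingCat.of k))).map t₁.op v := by
  obtain ⟨U, hU⟩ := un_surjective (d (sp (j₁ k E) ≫ e.inv) (sp (j₂ k E) ≫ e.inv))
  have hc : i₁₂ k E U * i₂₃ k E U = i₁₃ k E U := by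
    have h1 : ∀ φ : E ⊗[k] E →ₐ[k] E ⊗[k] (E ⊗[k] E), un (Units.map φ.toMonoidHom U) =
        d (sp (φ.comp (j₁ k E)) ≫ e.inv) (sp (φ.comp (j₂ k E)) ≫ e.inv) := fun φ => by
      rw [← map_un, hU, hn, sp_comp, sp_comp, Category.assoc, Category.assoc]
    have e1 : (i₂₃ k E).comp (j₁ k E) = (i₁₂ k E).comp (j₂ k E) := rfl
    have e2 : (i₂₃ k E).comp (j₂ k E) = (i₁₃ k E).comp (j₂ k E) := rfl
    have e3 : (i₁₃ k E).comp (j₁ k E) = (i₁₂ k E).comp (j₁ k E) := by
      ext x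
      rfl
    have h2 := un_injective ((un_mul (k := k) _ _).trans ((congrArg₂ (· + ·) (h1 (i₁₂ k E)) (h1 (i₂₃ k E))).trans
      ((show _ = d (sp ((i₁₃ k E).comp (j₁ k E)) ≫ e.inv) (sp ((i₁₃ k E).comp (j₂ k E)) ≫ e.inv) by
        rw [e1, e2, e3, hd]).trans (h1 (i₁₃ k E)).symm)))
    exact congrArg Units.val h2
  obtain ⟨v, hv⟩ := alg U hc
  have hv' : Units.map (j₂ k E).toMonoidHom v = U * Units.map (j₁ k E).toMonoidHom v := Units.ext hv
  have h5 := congrArg (un (k := k)) hv'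
  rw [un_mul, ← map_un, ← map_un, hU] at h5
  refine ⟨(GmPts.unitsPre (Spec (CommRingCat.of k))).map e.hom.op (un v), fun {T} t₁ t₂ => ?_⟩
  obtain ⟨r, hr1, hr2⟩ := exists_pair (t₁ ≫ e.hom) (t₂ ≫ e.hom)
  rw [map_map_apply, map_map_apply, ← hr1, ← hr2, ← map_map_apply, ← map_map_apply, h5, map_add, hn, ← Category.assoc,
    ← Category.assoc, hr1, hr2, Category.assoc, Category.assoc, e.hom_inv_id, Category.comp_id, Category.comp_id,
    add_sub_cancel_right]

end Sch

end K289.PicAlg
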