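import Groth.Agent.StCoh.K289.GerbProd
import Groth.Agent.StCoh.K289.PicAlg
import Groth.Agent.AlgSt.K747.DMDiag
import Groth.Agent.AlgSt.K735.Top
import Groth.Agent.AlgSt.K738.YonProps
import Groth.Agent.AlgSt.K738.RespIso
import Groth.Agent.AlgSp.K638.QfNhd
import Groth.Agent.AlgSp.K622.Sch
import Groth.Agent.Mor.K386.UnramField
import Groth.Agent.S10206

/-!
# Automorphisms of an object over a field of a quasi-separated Deligne-Mumford stack
-/

set_option autoImplicit false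
set_option backward.isDefEq.respectTransparency false
set_option backward.isDefEq.respectTransparency.types false
set_option linter.unusedSectionVars false

universe w v u

open CategoryTheory CategoryTheory.Limits AlgebraicGeometry Opposite K751.FG K289.GerbLoc K289.PicAlg

namespace K289.AutObj

section Gen

variable {S : Scheme.{u}} {𝒢 : AlgSt.Cat S} (hp : FibCat.IsFibGrpd 𝒢.p)

include hp in
/-- The isomorphisms between two objects represented by a scheme. -/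
theorem isom_obj_of_rep {B : Over S} (s t : 𝒢.p.Fiber B) {F : AlgSp.Sp S} (R : K862.IsomRep s t F) {A : Over S}
    (i : A ⟶ B) (fst : (AlgSp.yon S).obj A ⟶ F) [IsIso fst] (hfi : fst ≫ R.π = (AlgSp.yon S).map i) :
    ∃ (P : 𝒢.obj) (e : 𝒢.p.obj P ≅ A) (a : P ⟶ s.1) (b : P ⟶ t.1), 𝒢.p.IsHomLift (e.hom ≫ i) a ∧
      𝒢.p.IsHomLift (e.hom ≫ i) b ∧
      (∀ {Y : 𝒢.obj} (g : 𝒢.p.obj Y ⟶ B) (x : Y ⟶ s.1) (y : Y ⟶ t.1), 𝒢.p.IsHomLift g x → 𝒢.p.IsHomLift g y →
        ∃ h : Y ⟶ P, h ≫ a = x ∧ h ≫ b = y) := by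
  obtain ⟨g, z, a, b, ha, hb, hσ⟩ := R.sec_surj (K607.sec fst)
  have hgi : g = i := by
    have h1 := K607.sec_comp fst R.π
    rw [← hσ, R.sec_π, hfi, GerbProd.sec_yon] at h1
    exact (congrArg ULift.down h1).symm
  subst hgi
  have hA : 𝒢.p.obj z.1 = A := z.2
  have yo : ∀ {T : Over S} (τ : F.obj.obj (op T)), ∃ h₀ : T ⟶ A, F.obj.map h₀.op (K607.sec fst) = τ := fun {T} τ => by
    obtain ⟨h₀, hh₀⟩ := (AlgSp.yon S).map_surjective (K607.pt τ ≫ inv fst)
    refine ⟨h₀, ?_⟩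
    rw [← K607.sec_map, hh₀, Category.assoc, IsIso.inv_hom_id, Category.comp_id, K607.sec_pt]
  refine ⟨z.1, eqToIso hA, a, b, ?_, ?_, ?_⟩
  · exact IsHomLift.of_fac' 𝒢.p _ _ rfl s.2 (by
      have := IsHomLift.fac' 𝒢.p g a
      simpa using this)
  · exact IsHomLift.of_fac' 𝒢.p _ _ rfl t.2 (by
      have := IsHomLift.fac' 𝒢.p g b
      simpa using this)
  · intro Y g' x y hx hy
    obtain ⟨h₀, hh₀⟩ := yo (R.sec g' (⟨Y, rfl⟩ : 𝒢.p.Fiber (𝒢.p.obj Y)) x y hx hy)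
    obtain ⟨z'', c, hc⟩ := K862.Fib.exists_pull h₀ z
    rw [← hσ, R.sec_map h₀ g z'' z c a b hc ha hb (IsHomLift.comp 𝒢.p h₀ g c a) (IsHomLift.comp 𝒢.p h₀ g c b)] at hh₀
    obtain ⟨θ, h1, h2⟩ := (R.sec_eq_iff _ _ _ _ _ _ _ _ _ _ _ _).1 hh₀.symm
    exact ⟨θ.1 ≫ c, by rw [Category.assoc, h1], by rw [Category.assoc, h2]⟩

end Gen

variable {k : Type u} [Field k] {𝒢 : AlgSt.Cat (Spec (CommRingCat.of k))} {E : Type u} [Field E] [Algebra k E]

/-- The automorphisms of an object over a field of a quasi-separated Deligne-Mumford stack form a finite étale scheme. -/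
theorem aut_obj (hDM : AlgSt.IsDM Scheme.fppfPrecoverage 𝒢) (hqs : AlgSt.IsQuasiSeparatedOver 𝒢) {V : 𝒢.obj}
    (e : 𝒢.p.obj V ≅ sA E) :
    ∃ (P : 𝒢.obj) (a b : P ⟶ V), 𝒢.p.map a = 𝒢.p.map b ∧ IsFinite (𝒢.p.map a).left ∧ Etale (𝒢.p.map a).left ∧
      ∀ {Y : 𝒢.obj} (x y : Y ⟶ V), 𝒢.p.map x = 𝒢.p.map y → ∃ h : Y ⟶ P, h ≫ a = x ∧ h ≫ b = y := by
  have hp : FibCat.IsFibGrpd 𝒢.p := hDM.1.isStack.1
  have h1 : AlgSt.RepByAlgSpWith (AlgSp.LocP (@LocallyOfFiniteType ⊓ @FormallyUnramified)) (FibCat.diag (FibCat.toSelf 𝒢)) :=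
    K747.DM.isDMOver_of_isDM hDM
  have h2 := K735.Top.repByAlgSpWith_inf hqs h1
  let s : 𝒢.p.Fiber (𝒢.p.obj V) := ⟨V, rfl⟩
  obtain ⟨F, R, ⟨⟨hqc, -⟩, hun⟩⟩ := K862.exists_isomRep s s h2
  have het : ∀ {U : Over (Spec (CommRingCat.of k))} (h : U ⟶ 𝒢.p.obj V), LocallyOfFiniteType h.left →
      FormallyUnramified h.left → Etale h.left := fun {U} h h3 h4 => by
    have h5 : LocallyOfFiniteType (h.left ≫ e.hom.left) := inferInstance
    have h6 : FormallyUnramified (h.left ≫ e.hom.left) :=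
      (MorphismProperty.cancel_right_of_respectsIso @FormallyUnramified h.left e.hom.left).2 h4
    have h7 : Etale (h.left ≫ e.hom.left) := K386.UnramField.etale_of_formallyUnramified E (h.left ≫ e.hom.left)
    exact (MorphismProperty.cancel_right_of_respectsIso @Etale h.left e.hom.left).1 h7
  have hE : AlgSp.IsEtaleMor (R.π ≫ (AlgSp.yon _).map e.hom) := by
    intro U φ hφ
    obtain ⟨h, hh⟩ := (AlgSp.yon _).map_surjective (φ ≫ R.π)
    have h3 := hun φ (𝟙 _) h hφ (AlgSp.repWith_id _ _) (by rw [Category.comp_id, hh])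
    have h4 : Etale h.left := het h h3.1 h3.2
    rw [← Category.assoc, ← hh, ← Functor.map_comp]
    refine (AlgSp.repWith_yon_map_iff _ _).2 ?_
    rw [Over.comp_left]
    infer_instance
  have hrep := Groth.Agent.S10206.result F E _ (R.π ≫ (AlgSp.yon _).map e.hom) hE
  obtain ⟨A, ⟨ψ⟩⟩ := K638.QfNhd.exists_iso_of_isRepresentable hrep
  obtain ⟨i, hi⟩ := (AlgSp.yon _).map_surjective (ψ.hom ≫ R.π)
  have hψ : AlgSp.RepWith @Etale ψ.hom := by
    have := MorphismProperty.RespectsIso.postcomp (AlgSp.RepWith (S := Spec (CommRingCat.of k)) @Etale) ψ.hom (𝟙 _)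
      (AlgSp.repWith_id @Etale A)
    rwa [Category.id_comp] at this
  have hE' : Etale i.left := by
    have h3 := hun ψ.hom (𝟙 _) i hψ (AlgSp.repWith_id _ _) (by rw [Category.comp_id, hi])
    exact het i h3.1 h3.2
  have hQ : QuasiCompact i.left := by
    rw [← K738.isQuasiCompactMor_yon_iff, hi]
    exact (MorphismProperty.cancel_left_of_respectsIso AlgSp.IsQuasiCompactMor ψ.hom R.π).2 hqc
  have hF : IsFinite i.left := by
    have h5 : IsFinite (i.left ≫ e.hom.left) := K622.Sch.isFinite_of_etale_of_quasiCompact (i.left ≫ e.hom.left)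
    exact (MorphismProperty.cancel_right_of_respectsIso @IsFinite i.left e.hom.left).1 h5
  obtain ⟨P, ε, a, b, ha, hb, hu⟩ := isom_obj_of_rep hp s s R i ψ.hom hi.symm
  have ea : 𝒢.p.map a = ε.hom ≫ i := map_eq_of_isHomLift a ha
  have eb : 𝒢.p.map b = ε.hom ≫ i := map_eq_of_isHomLift b hb
  refine ⟨P, a, b, ea.trans eb.symm, ?_, ?_, fun {Y} x y hxy => hu (𝒢.p.map x) x y inferInstance (hxy ▸ inferInstance)⟩
  · rw [ea, Over.comp_left]
    infer_instance
  · rw [ea, Over.comp_left]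
    infer_instance

end K289.AutObj
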