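import Groth.Agent.StCoh.K289.TorsSite2
import Groth.Agent.AlgSt.K750.Twist
import Groth.Agent.AlgSt.K750.TwistBG
import Groth.Agent.StCoh.K998.QuotFib
import Groth.Agent.Stk.K751.Rest
import Groth.Prelude.Def_StCoh

/-!
# The trivial torsor of `BG`, for `G` a constant group, is a torsor over the site of `BG`
-/

set_option autoImplicit false
set_option backward.isDefEq.respectTransparency false
set_option backward.isDefEq.respectTransparency.types false

universe w u

open CategoryTheory CategoryTheory.Limits MonoidalCategory CartesianMonoidalCategory MonObj GrpObj AlgebraicGeometry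
open AlgSt Opposite K750.TorsPts K750.TwistBG K289.TorsSite

namespace K289.BGTors

variable {S : Scheme.{u}} (G : Over S) [GrpObj G] (Γ : Type w) [Group Γ]

/-- `G` behaves like a constant group with points `Γ` for the topology `J`. -/
structure CPts (J : GrothendieckTopology (Over S)) where
  /-- the points -/
  pt : Γ → (T₀ S ⟶ G)
  mul : ∀ g h, pt (g * h) = pt g * pt h
  dec : ∀ {T : Over S} (g : T ⟶ G), ∃ R ∈ J T, ∀ ⦃V : Over S⦄ (f : V ⟶ T), R f → ∃ γ, f ≫ g = tm V ≫ pt γ
  inj : ∀ {T : Over S} (γ : Γ), tm T ≫ pt γ = 1 → γ = 1 ∨ ⊥ ∈ J T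

variable {G Γ} {K : Precoverage Scheme.{u}} [K.HasIsos]

theorem CPts.one {J : GrothendieckTopology (Over S)} (c : CPts G Γ J) : c.pt 1 = 1 := by
  have h := c.mul 1 1
  rw [_root_.mul_one] at h
  exact mul_eq_left.1 h.symm

variable (G K)

/-- the trivial torsor -/
noncomputable def x₀ : (BG K G).obj := (quotMap K G (trivAction G)).obj ⟨T₀ S, ⟨toUnit _⟩⟩

/-- the base of the trivial torsor -/
theorem x₀_base : (x₀ G K).base = T₀ S := rfl

/-- the unit section -/
noncomputable def s₀ : T₀ S ⟶ (x₀ G K).P := lift (1 : T₀ S ⟶ G) (𝟙 _)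

theorem s₀_π : s₀ G K ≫ (x₀ G K).π = 𝟙 _ := lift_snd _ _

variable {G K}

/-- maps to the trivial torsor give sections -/
theorem exists_sec {W : (BG K G).obj} (v : W ⟶ x₀ G K) :
    ∃ s : W.base ⟶ W.P, s ≫ W.π = 𝟙 _ ∧ s ≫ v.top = tm W.base ≫ s₀ G K := by
  have h : (tm W.base ≫ s₀ G K) ≫ (x₀ G K).π = 𝟙 _ ≫ v.base := tm_unique _ _
  exact ⟨v.cart.lift _ _ h, v.cart.lift_snd _ _ _, v.cart.lift_fst _ _ _⟩

theorem exists_map_of_sec {W : (BG K G).obj} (s : W.base ⟶ W.P) (hs : s ≫ W.π = 𝟙 _) (t : W.base ⟶ (x₀ G K).P) :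
    ∃ v : W ⟶ x₀ G K, s ≫ v.top = t := by
  obtain ⟨v, -, h⟩ := exists_hom_of_section (A := W) (B := x₀ G K) (tm W.base) s hs t (tm_unique _ _)
    (toUnit_unique _ _)
  exact ⟨v, h⟩

section Act

variable {J : GrothendieckTopology (Over S)} (c : CPts G Γ J)

theorem exists_a (γ : Γ) : ∃ a : x₀ G K ⟶ x₀ G K, s₀ G K ≫ a.top = act (x₀ G K).act (c.pt γ) (s₀ G K) :=
  exists_map_of_sec (W := x₀ G K) (s₀ G K) (s₀_π G K) _

/-- the action on the trivial torsor -/
noncomputable def a (γ : Γ) : x₀ G K ⟶ x₀ G K := (exists_a c γ).choose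

theorem s₀_a (γ : Γ) : s₀ G K ≫ (a (K := K) c γ).top = act (x₀ G K).act (c.pt γ) (s₀ G K) := (exists_a c γ).choose_spec

end Act

/-- The trivial torsor is a torsor over the site of `BG`. -/
noncomputable def tors [K.IsStableUnderBaseChange] (c : CPts G Γ (QuotSh.J K S)) : Tors (StCoh.J K (BG K G)) (x₀ G K) Γ where
  a := a (K := K) c
  a_one := by
    apply hom_ext_of_section (A := x₀ G K) (B := x₀ G K) (s₀ G K) (s₀_π G K)
    rw [s₀_a, c.one, act_one]
    exact (Category.comp_id _).symm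
  a_mul g h := by
    apply hom_ext_of_section (A := x₀ G K) (B := x₀ G K) (s₀ G K) (s₀_π G K)
    rw [s₀_a, c.mul, act_mul, ← s₀_a (K := K) c h, ← act_eqv (x₀ G K).act (x₀ G K).act _ (a (K := K) c h).eqv,
      ← s₀_a (K := K) c g, Category.assoc]
    rfl
  cov y := by
    have hR := K750.Twist.sv_mem y.loc
    refine ⟨(K750.Twist.sv y.π).functorPullback (BG K G).p,
      (K751.Rest.mem_restrictedTopology_iff' (K998.QuotFib.isFibGrpd_quotSt K G (trivAction G)) _).2
        ⟨_, hR, fun z b hb => hb⟩, fun W f hf => ?_⟩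
    obtain ⟨t, ht⟩ : ∃ t : W.base ⟶ y.P, t ≫ y.π = f.base := hf
    obtain ⟨v, -⟩ := exists_map_of_sec (W := W) (f.cart.lift t (𝟙 _) (by rw [ht, Category.id_comp]))
      (f.cart.lift_snd _ _ _) (tm W.base ≫ s₀ G K)
    exact ⟨v⟩
  dec {y} v w := by
    obtain ⟨s, hs, hsv⟩ := exists_sec v
    have h0 : (s ≫ w.top) ≫ (x₀ G K).π = (tm y.base ≫ s₀ G K) ≫ (x₀ G K).π := tm_unique _ _
    let g := dif (x₀ G K).act (x₀ G K).cart (tm y.base ≫ s₀ G K) (s ≫ w.top) h0
    have hg : act (x₀ G K).act g (tm y.base ≫ s₀ G K) = s ≫ w.top := act_dif _ _ _ _ _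
    obtain ⟨R, hR, h⟩ := c.dec g
    refine ⟨R.functorPullback (BG K G).p,
      (K751.Rest.mem_restrictedTopology_iff' (K998.QuotFib.isFibGrpd_quotSt K G (trivAction G)) _).2
        ⟨_, hR, fun z b hb => hb⟩, fun W f hf => ?_⟩
    obtain ⟨γ, hγ⟩ := h f.base hf
    refine ⟨γ, ?_⟩
    obtain ⟨s', hs', hsv'⟩ := exists_sec (f ≫ v)
    have h1 : s' ≫ f.top = f.base ≫ s := by
      apply v.cart.hom_ext
      · rw [Category.assoc, Category.assoc, hsv]
        refine Eq.trans hsv' ?_
        rw [← Category.assoc]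
        congr 1
        exact tm_unique _ _
      · rw [Category.assoc, f.cart.w, ← Category.assoc, hs', Category.assoc, hs, Category.id_comp, Category.comp_id]
    apply hom_ext_of_section (A := W) (B := x₀ G K) s' hs'
    change s' ≫ f.top ≫ w.top = s' ≫ f.top ≫ v.top ≫ (a (K := K) c γ).top
    rw [← Category.assoc, ← Category.assoc s', h1, Category.assoc, ← hg, comp_act, hγ, Category.assoc,
      ← Category.assoc s, hsv, Category.assoc, s₀_a, ← Category.assoc f.base (tm y.base), ← Category.assoc f.base (tm y.base),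
      comp_act]
    congr 1
    rw [tm_unique (f.base ≫ tm y.base) (tm W.base)]
  free {y} v γ h := by
    obtain ⟨s, hs, hsv⟩ := exists_sec v
    have h1 : s ≫ v.top ≫ (a (K := K) c γ).top = s ≫ v.top := congrArg (fun k : y ⟶ x₀ G K => s ≫ k.top) h
    rw [← Category.assoc, hsv, Category.assoc, s₀_a, comp_act] at h1
    refine (c.inj (T := y.base) γ ?_).imp_right fun hy => ?_
    · apply act_left_cancel (x₀ G K).act (x₀ G K).cart (tm y.base ≫ s₀ G K)
      rw [h1, act_one]
    · exact (K751.Rest.mem_restrictedTopology_iff' (K998.QuotFib.isFibGrpd_quotSt K G (trivAction G)) _).2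
        ⟨_, hy, fun z b hb => hb.elim⟩

end K289.BGTors
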