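import Groth.Agent.StCoh.K289.GerbAv2
import Mathlib.CategoryTheory.Sites.ConstantSheaf

/-!
# The constant sheaf is constant
-/

set_option autoImplicit false
set_option backward.isDefEq.respectTransparency false
set_option linter.unusedSectionVars false

universe w w' v u

open CategoryTheory CategoryTheory.Limits CategoryTheory.Abelian Opposite
open K289.TorsSite

namespace K289.GerbAv

variable {C : Type (u + 1)} [Category.{u} C] {J : GrothendieckTopology C} [HasSheafify J AddCommGrpCat.{u + 1}]
  [J.WEqualsLocallyBijective AddCommGrpCat.{u + 1}]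

/-- the constant sheaf -/
noncomputable def csConst {w₀ : C} (h₀ : ∀ R ∈ J w₀, R (𝟙 w₀)) (M : Type) [AddCommGroup M] :
    CS J w₀ M ((constantSheaf J AddCommGrpCat.{u + 1}).obj (AddCommGrpCat.of (ULift.{u + 1} M))) where
  κ Y := ((toSheafify J ((Functor.const Cᵒᵖ).obj (AddCommGrpCat.of (ULift.{u + 1} M)))).app (op Y)).hom.comp
    (AddEquiv.ulift (α := M)).symm.toAddMonoidHom
  map {Y Z} f m := (nat_apply (toSheafify J ((Functor.const Cᵒᵖ).obj (AddCommGrpCat.of (ULift.{u + 1} M)))) f
    (ULift.up m : ULift.{u + 1} M)).symm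
  loc {Y} s := ⟨Presheaf.imageSieve (toSheafify J ((Functor.const Cᵒᵖ).obj (AddCommGrpCat.of (ULift.{u + 1} M))))
    (U := Y) s, Presheaf.imageSieve_mem _ _ _, fun Z f ⟨t, ht⟩ => ⟨(show ULift.{u + 1} M from t).down, ht.symm⟩⟩
  inj := by
    intro m m' h
    have h1 := Presheaf.equalizerSieve_mem J (toSheafify J ((Functor.const Cᵒᵖ).obj (AddCommGrpCat.of (ULift.{u + 1} M))))
      (X := op w₀) (ULift.up m : ULift.{u + 1} M) (ULift.up m' : ULift.{u + 1} M) h
    have h2 := h₀ _ h1
    exact ULift.up_injective h2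

end K289.GerbAv
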