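import Mathlib.Algebra.Homology.DerivedCategory.Ext.EnoughInjectives
import Mathlib.CategoryTheory.Abelian.Injective.Basic

/-!
# Dimension shifting for Ext
-/

set_option autoImplicit false

universe w v u

open CategoryTheory CategoryTheory.Limits CategoryTheory.Abelian

namespace K289.ExtShift

variable {C : Type u} [Category.{v} C] [Abelian C] [HasExt.{w} C] {S : ShortComplex C} (hS : S.ShortExact)
  [Injective S.X₂] (X : C)

/-- connecting map -/
noncomputable def δ (n : ℕ) : Ext X S.X₃ n →+ Ext X S.X₁ (n + 1) := hS.extClass.postcomp X rfl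

omit [Injective S.X₂] in
theorem δ_apply {n : ℕ} (x : Ext X S.X₃ n) : δ hS X n x = x.comp hS.extClass rfl := rfl

theorem δ_surjective (n : ℕ) : Function.Surjective (δ hS X n) := fun y =>
  Ext.covariant_sequence_exact₁ X hS y (Ext.eq_zero_of_injective _) rfl

omit [Injective S.X₂] in
theorem δ_eq_zero_iff {n : ℕ} (x : Ext X S.X₃ n) :
    δ hS X n x = 0 ↔ ∃ y : Ext X S.X₂ n, y.comp (Ext.mk₀ S.g) (add_zero n) = x := by
  constructor
  · exact Ext.covariant_sequence_exact₃ X hS x rfl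
  · rintro ⟨y, rfl⟩
    rw [δ_apply, Ext.comp_assoc_of_second_deg_zero, ShortComplex.ShortExact.comp_extClass, Ext.comp_zero]

include hS in
/-- dimension shifting in positive degrees -/
theorem nonempty_equiv (n : ℕ) : Nonempty (Ext X S.X₃ (n + 1) ≃+ Ext X S.X₁ (n + 1 + 1)) := by
  refine ⟨AddEquiv.ofBijective (δ hS X (n + 1)) ⟨?_, δ_surjective hS X _⟩⟩
  rw [injective_iff_map_eq_zero]
  intro x hx
  obtain ⟨y, rfl⟩ := (δ_eq_zero_iff hS X x).1 hx
  rw [Ext.eq_zero_of_injective y, Ext.zero_comp]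

/-- the connecting map out of `Hom` -/
noncomputable def δ₀ : (X ⟶ S.X₃) →+ Ext X S.X₁ 1 :=
  (δ hS X 0).comp (Ext.addEquiv₀ (X := X) (Y := S.X₃)).symm.toAddMonoidHom

theorem δ₀_surjective : Function.Surjective (δ₀ hS X) :=
  (δ_surjective hS X 0).comp (Ext.addEquiv₀ (X := X) (Y := S.X₃)).symm.surjective

omit [Injective S.X₂] in
theorem δ₀_eq_zero_iff (f : X ⟶ S.X₃) : δ₀ hS X f = 0 ↔ ∃ g : X ⟶ S.X₂, g ≫ S.g = f := by
  change δ hS X 0 (Ext.mk₀ f) = 0 ↔ _
  rw [δ_eq_zero_iff]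
  constructor
  · rintro ⟨y, hy⟩
    obtain ⟨g, rfl⟩ := (Ext.mk₀_bijective _ _).2 y
    refine ⟨g, (Ext.mk₀_bijective _ _).1 ?_⟩
    rw [← hy, Ext.mk₀_comp_mk₀]
  · rintro ⟨g, rfl⟩
    exact ⟨Ext.mk₀ g, Ext.mk₀_comp_mk₀ _ _⟩

end K289.ExtShift
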