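import Groth.Agent.Variety.K426.GeomPts
import Groth.Agent.Sga4h.H146.FinPt
import Groth.Agent.S1379
import Groth.Agent.Unram.K147.LQF
import Mathlib.AlgebraicGeometry.AlgClosed.Basic
import Mathlib.AlgebraicGeometry.Artinian
import Mathlib.AlgebraicGeometry.Morphisms.QuasiFinite
import Mathlib.FieldTheory.IsAlgClosed.AlgebraicClosure

/-!
# Schemes locally of finite type over a field
-/

set_option autoImplicit false

universe u

open CategoryTheory CategoryTheory.Limits AlgebraicGeometry Topology

namespace K289.FieldSch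

variable {k : Type u} [Field k]

/-- the geometric point of the base -/
noncomputable abbrev gp (k : Type u) [Field k] : Spec (CommRingCat.of (AlgebraicClosure k)) ⟶ Spec (CommRingCat.of k) :=
  Spec.map (CommRingCat.ofHom (algebraMap k (AlgebraicClosure k)))

theorem exists_closed {X : Scheme.{u}} (f : X ⟶ Spec (CommRingCat.of k)) [LocallyOfFiniteType f] [Nonempty X] :
    ∃ x : X, IsClosed ({x} : Set X) := by
  have : JacobsonSpace (Spec (CommRingCat.of k)) := inferInstance
  have : JacobsonSpace X := LocallyOfFiniteType.jacobsonSpace f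
  have h1 : (closedPoints X).Nonempty := by
    rw [← closure_nonempty_iff, closure_closedPoints]
    exact Set.univ_nonempty
  exact h1

/-- A nonempty scheme locally of finite type has a point with values in the algebraic closure. -/
theorem exists_gp {X : Scheme.{u}} (f : X ⟶ Spec (CommRingCat.of k)) [LocallyOfFiniteType f] [Nonempty X] :
    ∃ s : Spec (CommRingCat.of (AlgebraicClosure k)) ⟶ X, s ≫ f = gp k := by
  let _ : X.Over (Spec (CommRingCat.of k)) := ⟨f⟩
  have : LocallyOfFiniteType (X ↘ Spec (CommRingCat.of k)) := ‹_›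
  obtain ⟨x, hx⟩ := exists_closed f
  obtain ⟨p, hp, -⟩ := (K426.GeomPts.isClosed_iff_exists k X (AlgebraicClosure k) x).1 hx
  exact ⟨p, hp⟩

/-- A nonempty scheme locally of finite type has a finite point. -/
theorem exists_pt {X : Scheme.{u}} (f : X ⟶ Spec (CommRingCat.of k)) [LocallyOfFiniteType f] [Nonempty X] :
    ∃ (Z : Scheme.{u}) (g : Z ⟶ X), IsFinite (g ≫ f) ∧ Nonempty Z ∧ Subsingleton Z ∧ IsIntegral Z := by
  obtain ⟨x, hx⟩ := exists_closed f
  refine ⟨Spec (X.residueField x), X.fromSpecResidueField x, ?_, inferInstance, inferInstance, inferInstance⟩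
  rw [isClosed_singleton_iff_isClosedImmersion] at hx
  rw [isFinite_iff_locallyOfFiniteType_of_jacobsonSpace]
  infer_instance

/-- geometric points of a one point scheme are conjugate -/
theorem exists_conj {X : Scheme.{u}} [Subsingleton X] (f : X ⟶ Spec (CommRingCat.of k))
    (p q : Spec (CommRingCat.of (AlgebraicClosure k)) ⟶ X) (hp : p ≫ f = gp k) (hq : q ≫ f = gp k) :
    ∃ σ : Spec (CommRingCat.of (AlgebraicClosure k)) ⟶ Spec (CommRingCat.of (AlgebraicClosure k)),
      σ ≫ gp k = gp k ∧ σ ≫ p = q := by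
  let _ : X.Over (Spec (CommRingCat.of k)) := ⟨f⟩
  obtain ⟨σ, hσ⟩ := (K426.GeomPts.eq_iff_exists k X (AlgebraicClosure k) p q hp hq).1 (Subsingleton.elim _ _)
  refine ⟨_, ?_, hσ.symm⟩
  rw [← hp, ← Category.assoc, ← hσ, hq, hp]

/-- endomorphisms of the geometric point are isomorphisms -/
theorem isIso_of_comp_gp (σ : Spec (CommRingCat.of (AlgebraicClosure k)) ⟶ Spec (CommRingCat.of (AlgebraicClosure k)))
    (h : σ ≫ gp k = gp k) : IsIso σ := by
  obtain ⟨φ, rfl⟩ := Spec.map_surjective σ
  rw [← Spec.map_comp] at h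
  have h1 := Spec.map_injective h
  let ψ : AlgebraicClosure k →ₐ[k] AlgebraicClosure k :=
    { φ.hom with commutes' := fun c => congrArg (fun g => g.hom c) h1 }
  have h2 : Function.Bijective φ.hom := Algebra.IsAlgebraic.algHom_bijective ψ
  have h3 : IsIso φ := (ConcreteCategory.isIso_iff_bijective φ).2 h2
  infer_instance

/-- finitely many sections -/
theorem finite_sections {K : Type u} [Field K] [IsAlgClosed K] {X : Scheme.{u}} (f : X ⟶ Spec (CommRingCat.of K))
    [IsFinite f] : Finite {p : Spec (CommRingCat.of K) ⟶ X // p ≫ f = 𝟙 _} := by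
  have := Groth.Agent.Sga4h.H146.FinPt.finite_points f
  exact Finite.of_equiv _ (pointEquivClosedPoint f).symm

/-- Over a one point scheme, quasi-finite flat covers have finite one point refinements. -/
theorem exists_ref {X Y : Scheme.{u}} (f : X ⟶ Spec (CommRingCat.of k)) [IsFinite f] [Subsingleton X] [Nonempty X]
    (g : Y ⟶ X) [Flat g] [LocallyOfFinitePresentation g] [Nonempty Y] :
    ∃ (Z : Scheme.{u}) (h : Z ⟶ Y), IsFinite (h ≫ g) ∧ Flat (h ≫ g) ∧ LocallyOfFinitePresentation (h ≫ g) ∧
      Surjective (h ≫ g) ∧ Nonempty Z ∧ Subsingleton Z := by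
  have hsurj : ∀ {Z : Scheme.{u}} (a : Z ⟶ X) [Nonempty Z], Surjective a := fun {Z} a _ =>
    ⟨fun x => ⟨Classical.arbitrary Z, Subsingleton.elim _ _⟩⟩
  have := hsurj g
  obtain ⟨S', V, e, π, he, hs, hπs, hπf, hπfl, hπp, H⟩ := Groth.Agent.S1379.result g (Classical.arbitrary X)
  obtain ⟨s', -⟩ := hs
  obtain ⟨v, -⟩ := π.surjective s'
  have h0 : LocallyQuasiFinite e := @K147.LQF.locallyQuasiFinite_of_etale _ _ e _
  have h1 : LocallyQuasiFinite (π ≫ e) := inferInstance
  have hA : IsLocallyArtinian X := (Groth.Agent.Sga4h.H146.FinPt.isArtinianScheme f).toIsLocallyArtinian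
  have h2 : IsLocallyArtinian V := IsLocallyArtinian.of_locallyQuasiFinite (π ≫ e)
  have h3 : DiscreteTopology V := inferInstance
  obtain ⟨W, r, hv, hr⟩ := H v
  let O : V.Opens := ⟨{v}, isOpen_discrete _⟩
  have hO : O ≤ W := by
    intro x hx
    obtain rfl : x = v := hx
    exact hv
  have hcomp : (V.homOfLE hO ≫ r) ≫ g = O.ι ≫ π ≫ e := by
    rw [Category.assoc, hr, ← Category.assoc, Scheme.homOfLE_ι]
  have hsub : Subsingleton O := inferInstanceAs (Subsingleton ({v} : Set V))
  have hne : Nonempty O := inferInstanceAs (Nonempty ({v} : Set V))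
  have hfin : Finite O := inferInstance
  refine ⟨O, V.homOfLE hO ≫ r, ?_, ?_, ?_, hsurj _, hne, hsub⟩
  · rw [hcomp]
    have h4 : IsArtinianScheme X := Groth.Agent.Sga4h.H146.FinPt.isArtinianScheme f
    have : IsAffine X := isAffine_of_isAffineHom f
    have h5 : CompactSpace O := inferInstance
    have h6 : QuasiCompact (O.ι ≫ π ≫ e) := by
      rw [quasiCompact_iff_compactSpace]
      exact h5
    exact IsFinite.of_locallyQuasiFinite _
  · rw [hcomp]; infer_instance
  · rw [hcomp]; infer_instance

end K289.FieldSch
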