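import Groth.Agent.StCoh.K289.TorsSite2

/-!
# Cohomology of constant sheaves on a site with enough "finite connected" objects and a point

`Pt J w₀ good conn`: `w₀` is a point of the site, the `good` objects have finitely many points, the `conn` objects are covers
of the final object on whose points `End w₀` acts transitively.
-/

set_option autoImplicit false
set_option backward.isDefEq.respectTransparency false

set_option linter.unusedSectionVars false

universe w w' v u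

open CategoryTheory CategoryTheory.Limits CategoryTheory.Abelian Opposite Groth.Agent.Etrest.FppfCoch
open K289.TorsSite

namespace K289.GerbAv

variable {C : Type (u + 1)} [Category.{u} C] {J : GrothendieckTopology C} [HasSheafify J AddCommGrpCat.{u + 1}]

section Glue

variable {P : Cᵒᵖ ⥤ AddCommGrpCat.{u + 1}}

/-- gluing for a covering family of arrows -/
theorem glue (hP : Presheaf.IsSheaf J P) {W : C} {ι : Type w} {Z : ι → C} (f : ∀ i, Z i ⟶ W)
    (hf : Sieve.ofArrows Z f ∈ J W) (e : ∀ i, P.obj (op (Z i)))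
    (h : ∀ {Y : C} (i j : ι) (a : Y ⟶ Z i) (b : Y ⟶ Z j), a ≫ f i = b ≫ f j → P.map a.op (e i) = P.map b.op (e j)) :
    ∃ s : P.obj (op W), ∀ i, P.map (f i).op s = e i := by
  have h1 := (isSheaf_ty hP) _ hf
  have h2 : Presieve.IsSheafFor (P ⋙ forget AddCommGrpCat.{u + 1}) (Presieve.ofArrows Z f) := by
    rw [Presieve.isSheafFor_iff_generate]
    exact h1
  rw [Presieve.isSheafFor_arrows_iff] at h2
  obtain ⟨s, hs, -⟩ := h2 e (fun i j Y a b hab => h i j a b hab)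
  exact ⟨s, hs⟩

/-- uniqueness for a covering family of arrows -/
theorem eq_of_ofArrows (hP : Presheaf.IsSheaf J P) {W : C} {ι : Type w} {Z : ι → C} (f : ∀ i, Z i ⟶ W)
    (hf : Sieve.ofArrows Z f ∈ J W) {s s' : P.obj (op W)} (h : ∀ i, P.map (f i).op s = P.map (f i).op s') : s = s' := by
  refine eq_of_cover hP hf fun V g hg => ?_
  obtain ⟨Y, a, b, ⟨i⟩, rfl⟩ := hg
  rw [← map_map_apply, ← map_map_apply, h]

end Glue

section Global

variable {F : Sheaf J AddCommGrpCat.{u + 1}} {V : C}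

/-- sections over the final object are compatible sections over a cover -/
theorem glueOne (hV : ∀ y : C, ∃ R ∈ J y, ∀ ⦃W : C⦄ (f : W ⟶ y), R f → Nonempty (W ⟶ V)) (s : F.obj.obj (op V))
    (hind : ∀ {W : C} (v w : W ⟶ V), F.obj.map v.op s = F.obj.map w.op s) : ∃ f : ZJ J ⟶ F, one f V = s := by
  have hex : ∀ W : C, ∃ t : F.obj.obj (op W), ∀ {Y : C} (g : Y ⟶ W) (v : Y ⟶ V),
      F.obj.map g.op t = F.obj.map v.op s := by
    intro W
    let R : Sieve W :=
      { arrows := fun Y _ => Nonempty (Y ⟶ V)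
        downward_closed := by
          rintro Y Y' f ⟨v⟩ g
          exact ⟨g ≫ v⟩ }
    have hR : R ∈ J W := by
      obtain ⟨R', hR', h⟩ := hV W
      exact J.superset_covering (fun V f hf => h f hf) hR'
    let fam : Presieve.FamilyOfElements (F.obj ⋙ forget AddCommGrpCat.{u + 1}) R.arrows :=
      fun Y f hf => F.obj.map (Classical.choice (show Nonempty (Y ⟶ V) from hf)).op s
    have hcomp : fam.Compatible := by
      intro Y₁ Y₂ Z g₁ g₂ f₁ f₂ h₁ h₂ h
      change F.obj.map g₁.op (F.obj.map _ s) = F.obj.map g₂.op (F.obj.map _ s)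
      rw [map_map_apply, map_map_apply]
      exact hind _ _
    obtain ⟨t, ht, -⟩ := (isSheaf_ty F.property) R hR fam hcomp
    refine ⟨t, fun {Y} g v => ?_⟩
    have hv : R g := ⟨v⟩
    have h1 : F.obj.map g.op t = F.obj.map (Classical.choice (show Nonempty (Y ⟶ V) from hv)).op s := ht g hv
    rw [h1]
    exact hind _ _
  choose t ht using hex
  obtain ⟨f, hf⟩ := exists_one t (fun {W W'} g => by
    obtain ⟨R, hR, h⟩ := hV W'
    refine eq_of_cover F.property hR fun Y k hk => ?_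
    obtain ⟨v⟩ := h k hk
    rw [map_map_apply, ht _ (k ≫ g) v, ht _ k v])
  refine ⟨f, ?_⟩
  rw [hf]
  have h1 := ht V (𝟙 V) (𝟙 V)
  rw [op_id, F.obj.map_id] at h1
  exact h1

theorem one_ext (hV : ∀ y : C, ∃ R ∈ J y, ∀ ⦃W : C⦄ (f : W ⟶ y), R f → Nonempty (W ⟶ V)) {f g : ZJ J ⟶ F}
    (h : one f V = one g V) : f = g := by
  apply one_injective
  intro W
  obtain ⟨R, hR, h'⟩ := hV W
  refine eq_of_cover F.property hR fun Y k hk => ?_
  obtain ⟨v⟩ := h' k hk
  rw [one_map, one_map, ← one_map f v, ← one_map g v, h]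

end Global

/-- A point with enough finite objects. -/
structure Pt (J : GrothendieckTopology C) (w₀ : C) (good conn : C → Prop) : Prop where
  triv : ∀ R ∈ J w₀, R (𝟙 w₀)
  fin : ∀ V, good V → Finite (w₀ ⟶ V)
  iso : ∀ g : w₀ ⟶ w₀, IsIso g
  good_of_conn : ∀ V, conn V → good V
  ne : ∀ V, conn V → Nonempty (w₀ ⟶ V)
  trans : ∀ V, conn V → ∀ s t : w₀ ⟶ V, ∃ g : w₀ ⟶ w₀, t = g ≫ s
  cov : ∀ V, conn V → ∀ y : C, ∃ R ∈ J y, ∀ ⦃W : C⦄ (f : W ⟶ y), R f → Nonempty (W ⟶ V)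
  ex : ∃ V, conn V
  dens : ∀ V, good V → ∀ R ∈ J V, ∃ R' ∈ J V, ∀ ⦃Y : C⦄ (f : Y ⟶ V), R' f →
    ∃ (Z : C) (g : Y ⟶ Z) (h : Z ⟶ V), g ≫ h = f ∧ R h ∧ Nonempty (w₀ ⟶ Z)
  ref : ∀ V, conn V → ∀ R ∈ J V, ∃ (Z : C) (f : Z ⟶ V), conn Z ∧ R f ∧
    Sieve.ofArrows (fun _ : Unit => Z) (fun _ => f) ∈ J V
  prod : ∀ V W, good V → good W → ∃ (P : C) (a : P ⟶ V) (b : P ⟶ W), good P ∧
    ∀ {Y : C} (x : Y ⟶ V) (y : Y ⟶ W), ∃ h : Y ⟶ P, (h ≫ a = x ∧ h ≫ b = y) ∧
      ∀ h' : Y ⟶ P, h' ≫ a = x → h' ≫ b = y → h' = h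
  pull : ∀ Z W (f : Z ⟶ W), good Z → good W → ∃ (P : C) (a b : P ⟶ Z), good P ∧ a ≫ f = b ≫ f ∧
    ∀ {Y : C} (x y : Y ⟶ Z), x ≫ f = y ≫ f → ∃ h : Y ⟶ P, h ≫ a = x ∧ h ≫ b = y
  dec : ∀ P, good P → ∃ (ι : Type u) (Z : ι → C) (f : ∀ i, Z i ⟶ P), (∀ i, conn (Z i)) ∧ Sieve.ofArrows Z f ∈ J P ∧
    (∀ i {Y : C} (a b : Y ⟶ Z i), a ≫ f i = b ≫ f i → a = b) ∧
    ∀ i j, i ≠ j → ∀ {Y : C} (a : Y ⟶ Z i) (b : Y ⟶ Z j), a ≫ f i = b ≫ f j → ⊥ ∈ J Y

/-- `F` is the constant sheaf `M`. -/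
structure CS (J : GrothendieckTopology C) (w₀ : C) (M : Type v) [AddCommGroup M] (F : Sheaf J AddCommGrpCat.{u + 1}) where
  /-- constant sections -/
  κ : ∀ Y : C, M →+ F.obj.obj (op Y)
  map : ∀ {Y Z : C} (f : Y ⟶ Z) (m : M), F.obj.map f.op (κ Z m) = κ Y m
  loc : ∀ {Y : C} (s : F.obj.obj (op Y)), ∃ R ∈ J Y, ∀ ⦃Z : C⦄ (f : Z ⟶ Y), R f → ∃ m, F.obj.map f.op s = κ Z m
  inj : Function.Injective (κ w₀)

variable {w₀ : C} {good conn : C → Prop} (p : Pt J w₀ good conn) {M : Type v} [AddCommGroup M]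
  {F : Sheaf J AddCommGrpCat.{u + 1}} (c : CS J w₀ M F)

include p in
theorem exists_value (s : F.obj.obj (op w₀)) : ∃ m, s = c.κ w₀ m := by
  obtain ⟨R, hR, h⟩ := c.loc s
  obtain ⟨m, hm⟩ := h _ (p.triv R hR)
  rw [op_id, F.obj.map_id] at hm
  exact ⟨m, hm⟩

include p c in
/-- detection on points -/
theorem eq_zero {V : C} (hV : good V) (s : F.obj.obj (op V)) (h : ∀ x : w₀ ⟶ V, F.obj.map x.op s = 0) : s = 0 := by
  obtain ⟨R, hR, hl⟩ := c.loc s
  obtain ⟨R', hR', hd⟩ := p.dens V hV R hR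
  refine eq_of_cover F.property hR' fun Y f hf => ?_
  obtain ⟨Z, g, k, rfl, hk, ⟨x⟩⟩ := hd f hf
  obtain ⟨m, hm⟩ := hl k hk
  have h1 : c.κ w₀ m = 0 := by
    rw [← c.map x m, ← hm, map_map_apply, h]
  have h2 : m = 0 := c.inj (h1.trans (map_zero _).symm)
  rw [← map_map_apply, hm, h2, map_zero, map_zero, map_zero]

variable {S : ShortComplex (Sheaf J AddCommGrpCat.{u + 1})}

open Classical in
include p in
/-- The key lemma: sections which agree modulo constants and whose ambiguity is a cocycle on the points. -/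
theorem key (hM : ∀ (n : ℕ) (m : M), n ≠ 0 → n • m = 0 → m = 0) (hS : S.ShortExact) (c : CS J w₀ M S.X₁) {V : C}
    (hV : conn V) (e : S.X₂.obj.obj (op V)) (r : ∀ {Y : C}, (Y ⟶ V) → (Y ⟶ V) → Prop)
    (rc : ∀ {Y Z : C} (h : Z ⟶ Y) {x y : Y ⟶ V}, r x y → r (h ≫ x) (h ≫ y))
    (rr : ∀ x : w₀ ⟶ V, r x x) (rs : ∀ {x y : w₀ ⟶ V}, r x y → r y x)
    (rt : ∀ {x y z : w₀ ⟶ V}, r x y → r y z → r x z) {P : C} (hP : good P) (a b : P ⟶ V) (hab : r a b)
    (hu : ∀ {Y : C} {x y : Y ⟶ V}, r x y → ∃ h : Y ⟶ P, h ≫ a = x ∧ h ≫ b = y)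
    (he : ∀ {Y : C} {x y : Y ⟶ V}, r x y → S.g.hom.app (op Y) (S.X₂.obj.map x.op e) =
      S.g.hom.app (op Y) (S.X₂.obj.map y.op e)) {Y : C} {x y : Y ⟶ V} (hxy : r x y) :
    S.X₂.obj.map x.op e = S.X₂.obj.map y.op e := by
  have hfin : Finite (w₀ ⟶ V) := p.fin V (p.good_of_conn V hV)
  have := Fintype.ofFinite (w₀ ⟶ V)
  -- the difference on points
  have hd : ∀ x y : w₀ ⟶ V, ∃ m : M, r x y → S.f.hom.app (op w₀) (c.κ w₀ m) =
      S.X₂.obj.map y.op e - S.X₂.obj.map x.op e := fun x y => by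
    by_cases h : r x y
    · have h1 : S.g.hom.app (op w₀) (S.X₂.obj.map y.op e - S.X₂.obj.map x.op e) = 0 := by
        rw [map_sub, he h, sub_self]
      obtain ⟨t, ht⟩ := ((exact_app hS w₀).2 _).1 h1
      obtain ⟨m, rfl⟩ := exists_value p c t
      exact ⟨m, fun _ => ht⟩
    · exact ⟨0, fun h' => absurd h' h⟩
  choose D hD using hd
  have hinj : Function.Injective fun m => S.f.hom.app (op w₀) (c.κ w₀ m) := (exact_app hS w₀).1.comp c.inj
  have hDm : ∀ (g : w₀ ⟶ w₀) {x y : w₀ ⟶ V}, r x y → D (g ≫ x) (g ≫ y) = D x y := fun g x y h => by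
    apply hinj
    dsimp only
    rw [hD _ _ (rc g h), ← map_map_apply, ← map_map_apply, ← map_sub, ← hD _ _ h, ← nat_apply S.f.hom g, c.map]
  have hDt : ∀ {x y z : w₀ ⟶ V}, r x y → r y z → D x z = D x y + D y z := fun {x y z} h h' => by
    apply hinj
    dsimp only
    rw [map_add, map_add, hD _ _ (rt h h'), hD _ _ h, hD _ _ h']
    abel
  let A : (w₀ ⟶ V) → M := fun y => ∑ x : w₀ ⟶ V, if r x y then D x y else 0
  have hA : ∀ (g : w₀ ⟶ w₀) (y : w₀ ⟶ V), A (g ≫ y) = A y := fun g y => by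
    have := p.iso g
    let φ : (w₀ ⟶ V) ≃ (w₀ ⟶ V) :=
      { toFun := fun x => g ≫ x
        invFun := fun x => inv g ≫ x
        left_inv := fun x => by simp
        right_inv := fun x => by simp }
    refine ((Equiv.sum_comp φ (fun x => if r x (g ≫ y) then D x (g ≫ y) else 0)).symm.trans ?_)
    refine Finset.sum_congr rfl fun x _ => ?_
    change (if r (g ≫ x) (g ≫ y) then D (g ≫ x) (g ≫ y) else 0) = if r x y then D x y else 0
    by_cases h : r x y
    · rw [if_pos h, if_pos (rc g h), hDm g h]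
    · rw [if_neg h, if_neg fun h' => h ?_]
      have h2 := rc (inv g) h'
      simpa using h2
  have hA' : ∀ y y' : w₀ ⟶ V, A y = A y' := fun y y' => by
    obtain ⟨g, rfl⟩ := p.trans V hV y' y
    exact hA g y'
  have hD0 : ∀ {y y' : w₀ ⟶ V}, r y y' → D y y' = 0 := fun {y y'} h => by
    have h1 : A y' = A y + (Finset.univ.filter fun x : w₀ ⟶ V => r x y).card • D y y' := by
      have h2 : ∀ x : w₀ ⟶ V, (if r x y' then D x y' else 0) = (if r x y then D x y else 0) +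
          if r x y then D y y' else 0 := fun x => by
        by_cases h3 : r x y
        · rw [if_pos h3, if_pos h3, if_pos (rt h3 h), hDt h3 h]
        · rw [if_neg h3, if_neg h3, if_neg fun h4 => h3 (rt h4 (rs h)), add_zero]
      change ∑ x : w₀ ⟶ V, (if r x y' then D x y' else 0) = _
      rw [Finset.sum_congr rfl fun x _ => h2 x, Finset.sum_add_distrib, ← Finset.sum_filter,
        ← Finset.sum_filter (s := Finset.univ) (p := fun x : w₀ ⟶ V => r x y) (f := fun _ => D y y'), Finset.sum_const]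
      congr 1
      rw [Finset.sum_filter]
    rw [hA' y' y, left_eq_add] at h1
    refine hM _ _ ?_ h1
    rw [Finset.card_ne_zero]
    exact ⟨y, Finset.mem_filter.2 ⟨Finset.mem_univ _, rr y⟩⟩
  -- the difference on `P`
  have h0 : S.g.hom.app (op P) (S.X₂.obj.map b.op e - S.X₂.obj.map a.op e) = 0 := by
    rw [map_sub, he hab, sub_self]
  obtain ⟨t, ht⟩ := ((exact_app hS P).2 _).1 h0
  have ht0 : t = 0 := by
    refine eq_zero p c hP t fun z => ?_
    apply (exact_app hS w₀).1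
    rw [nat_apply, ht, map_sub, map_map_apply, map_map_apply, ← hD _ _ (rc z hab), hD0 (rc z hab)]
    simp
  rw [ht0, map_zero] at ht
  have h3 : S.X₂.obj.map a.op e = S.X₂.obj.map b.op e := (sub_eq_zero.1 ht.symm).symm
  obtain ⟨h, rfl, rfl⟩ := hu hxy
  rw [← map_map_apply, ← map_map_apply, h3]

variable [J.WEqualsLocallyBijective AddCommGrpCat.{u + 1}]

/-- the sieve over which a section lifts -/
theorem lift_mem (hS : S.ShortExact) {V : C} (q : S.X₃.obj.obj (op V)) :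
    Presheaf.imageSieve S.g.hom (U := V) q ∈ J V := by
  have := hS.epi_g
  have h0 : Sheaf.IsLocallySurjective S.g := (Sheaf.isLocallySurjective_iff_epi' (φ := S.g)).2 inferInstance
  exact Presheaf.imageSieve_mem _ _ _

include p in
/-- Sections over connected objects lift. -/
theorem surj_conn (hM : ∀ (n : ℕ) (m : M), n ≠ 0 → n • m = 0 → m = 0) (hS : S.ShortExact) (c : CS J w₀ M S.X₁) {V : C}
    (hV : conn V) : Function.Surjective (S.g.hom.app (op V)) := by
  intro q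
  obtain ⟨Z, f, hZ, ⟨e, he⟩, hf⟩ := p.ref V hV _ (lift_mem hS q)
  have he' : S.g.hom.app (op Z) e = S.X₃.obj.map f.op q := he
  obtain ⟨P, a, b, hP, hab, hu⟩ := p.pull Z V f (p.good_of_conn Z hZ) (p.good_of_conn V hV)
  have hk := fun {Y : C} {x y : Y ⟶ Z} (h : x ≫ f = y ≫ f) => key p hM hS c hZ e (fun {Y} x y => x ≫ f = y ≫ f)
    (fun {_ _} h {x y} hxy => by rw [Category.assoc, Category.assoc, hxy]) (fun _ => rfl) (fun {_ _} h => h.symm)
    (fun {_ _ _} h h' => h.trans h') hP a b hab (fun {Y x y} h => hu x y h) (fun {Y x y} h => by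
      rw [nat_apply, nat_apply, he', map_map_apply, map_map_apply, h]) h
  obtain ⟨s, hs⟩ := glue S.X₂.property (fun _ : Unit => f) hf (fun _ => e) (fun _ _ x y h => hk h)
  refine ⟨s, eq_of_ofArrows S.X₃.property (fun _ : Unit => f) hf fun _ => ?_⟩
  rw [← nat_apply, hs ⟨⟩, he']

include p in
/-- Sections over good objects lift. -/
theorem surj_good (hM : ∀ (n : ℕ) (m : M), n ≠ 0 → n • m = 0 → m = 0) (hS : S.ShortExact) (c : CS J w₀ M S.X₁) {V : C}
    (hV : good V) : Function.Surjective (S.g.hom.app (op V)) := by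
  intro q
  obtain ⟨ι, Z, f, hZ, hf, hm, hd⟩ := p.dec V hV
  choose e he using fun i => surj_conn p hM hS c (hZ i) (S.X₃.obj.map (f i).op q)
  obtain ⟨s, hs⟩ := glue S.X₂.property f hf e (fun {Y} i j a b h => by
    by_cases hij : i = j
    · subst hij
      rw [hm i a b h]
    · exact (eq_zero_of_bot S.X₂.property (hd i j hij a b h) _).trans
        (eq_zero_of_bot S.X₂.property (hd i j hij a b h) _).symm)
  refine ⟨s, eq_of_ofArrows S.X₃.property f hf fun i => ?_⟩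
  rw [← nat_apply, hs, he]

include p in
/-- Vanishing of `H¹` of torsion free constant sheaves. -/
theorem h1 (hM : ∀ (n : ℕ) (m : M), n ≠ 0 → n • m = 0 → m = 0) (hS : S.ShortExact) (c : CS J w₀ M S.X₁)
    (β : ZJ J ⟶ S.X₃) : ∃ g : ZJ J ⟶ S.X₂, g ≫ S.g = β := by
  obtain ⟨V, hV⟩ := p.ex
  obtain ⟨Z, f, hZ, ⟨e, he⟩, hf⟩ := p.ref V hV _ (lift_mem hS (one β V))
  have he' : S.g.hom.app (op Z) e = one β Z := (show S.g.hom.app (op Z) e = S.X₃.obj.map f.op (one β V) from he).trans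
    (one_map β f)
  obtain ⟨P, a, b, hP, hu⟩ := p.prod Z Z (p.good_of_conn Z hZ) (p.good_of_conn Z hZ)
  have hk := fun {Y : C} {x y : Y ⟶ Z} (h : True) => key p hM hS c hZ e (fun {Y} x y => True)
    (fun {_ _} h {x y} hxy => trivial) (fun _ => trivial) (fun {_ _} h => trivial)
    (fun {_ _ _} h h' => trivial) hP a b trivial (fun {Y x y} h => (hu x y).imp fun k hk => hk.1) (fun {Y x y} h => by
      rw [nat_apply, nat_apply, he', one_map, one_map]) (x := x) (y := y) h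
  obtain ⟨g, hg⟩ := glueOne (p.cov Z hZ) e (fun v w => hk trivial)
  refine ⟨g, one_ext (p.cov Z hZ) ?_⟩
  rw [one_comp, hg, he']

include p in
/-- invariant functions on the points are sections of the constant sheaf -/
theorem exists_section (c : CS J w₀ M F) {V : C} (hV : good V) (φ : (w₀ ⟶ V) → M)
    (hφ : ∀ (g : w₀ ⟶ w₀) x, φ (g ≫ x) = φ x) : ∃ s : F.obj.obj (op V), ∀ x : w₀ ⟶ V, F.obj.map x.op s = c.κ w₀ (φ x) := by
  obtain ⟨ι, Z, f, hZ, hf, hm, hd⟩ := p.dec V hV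
  let z := fun i => Classical.choice (p.ne (Z i) (hZ i))
  obtain ⟨s, hs⟩ := glue F.property f hf (fun i => c.κ (Z i) (φ (z i ≫ f i))) (fun {Y} i j a b h => by
    by_cases hij : i = j
    · subst hij
      rw [hm i a b h]
    · exact (eq_zero_of_bot F.property (hd i j hij a b h) _).trans
        (eq_zero_of_bot F.property (hd i j hij a b h) _).symm)
  refine ⟨s, fun x => ?_⟩
  obtain ⟨Y, a, k, ⟨i⟩, hx⟩ := p.triv _ (J.pullback_stable x hf)
  rw [Category.id_comp] at hx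
  obtain ⟨g, hg⟩ := p.trans _ (hZ i) (z i) a
  rw [← hx, ← map_map_apply, hs, c.map, hg, Category.assoc, hφ]

open Classical in
/-- Čech 1-cocycles of an injective presheaf on a cover of the final object are coboundaries -/
theorem exists_cob {P : Cᵒᵖ ⥤ AddCommGrpCat.{u + 1}} [Injective P] {V : C} (d : ∀ {Y : C}, (Y ⟶ V) → (Y ⟶ V) → P.obj (op Y))
    (hn : ∀ {Y Z : C} (h : Z ⟶ Y) (x y : Y ⟶ V), P.map h.op (d x y) = d (h ≫ x) (h ≫ y))
    (hd : ∀ {Y : C} (x y z : Y ⟶ V), d x y + d y z = d x z) :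
    ∃ i : P.obj (op V), ∀ {Y : C} (x y : Y ⟶ V), d x y = P.map y.op i - P.map x.op i := by
  let r : cofree P ⟶ P := Injective.factorThru (𝟙 P) (toCofree P)
  have hr : toCofree P ≫ r = 𝟙 P := Injective.comp_factorThru _ _
  have hr' : ∀ {Y : C} (s : P.obj (op Y)), r.app (op Y) ((toCofree P).app (op Y) s) = s := fun {Y} s => by
    rw [← ConcreteCategory.comp_apply, ← NatTrans.comp_app, hr]; rfl
  let sel : ∀ W : C, (W ⟶ V) → (W ⟶ V) := fun W φ => Classical.choice ⟨φ⟩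
  have hsel : ∀ (W : C) (φ ψ : W ⟶ V), sel W φ = sel W ψ := fun W φ ψ => rfl
  let i' : (cofree P).obj (op V) := (show (∀ (W : C) (_ : W ⟶ V), P.obj (op W)) from fun W φ => d (sel W φ) φ)
  refine ⟨r.app (op V) i', fun {Y} x y => ?_⟩
  have key : (cofree P).map y.op i' - (cofree P).map x.op i' = (toCofree P).app (op Y) (d x y) := by
    funext W φ
    change d (sel W (φ ≫ y)) (φ ≫ y) - d (sel W (φ ≫ x)) (φ ≫ x) = P.map φ.op (d x y)
    rw [hn, hsel W (φ ≫ y) (φ ≫ x), ← hd _ (φ ≫ x) (φ ≫ y)]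
    abel
  rw [← nat_apply, ← nat_apply, ← map_sub, key, hr']

end K289.GerbAv
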