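import Groth.Agent.StCoh.K289.GerbAv
import Mathlib.Algebra.Module.Rat

/-!
# Vanishing of `H²` of constant sheaves of `ℚ`-vector spaces
-/

set_option autoImplicit false
set_option backward.isDefEq.respectTransparency false
set_option linter.unusedSectionVars false

universe w w' v u

open CategoryTheory CategoryTheory.Limits CategoryTheory.Abelian Opposite Groth.Agent.Etrest.FppfCoch
open K289.TorsSite

namespace K289.GerbAv

variable {C : Type (u + 1)} [Category.{u} C] {J : GrothendieckTopology C} [HasSheafify J AddCommGrpCat.{u + 1}]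
variable {w₀ : C} {good conn : C → Prop} (p : Pt J w₀ good conn) {M : Type v} [AddCommGroup M]
  [J.WEqualsLocallyBijective AddCommGrpCat.{u + 1}]

theorem torsionFree [Module ℚ M] (n : ℕ) (m : M) (hn : n ≠ 0) (h : n • m = 0) : m = 0 := by
  have h1 : (n : ℚ) • m = 0 := by rw [Nat.cast_smul_eq_nsmul, h]
  rw [smul_eq_zero] at h1
  exact h1.resolve_left (by exact_mod_cast hn)

open Classical in
include p in
/-- Vanishing of `H²` of constant sheaves of `ℚ`-vector spaces. -/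
theorem h2 [Module ℚ M] {F I Q I' Q' : Sheaf J AddCommGrpCat.{u + 1}} (α : F ⟶ I) (π : I ⟶ Q) (α' : Q ⟶ I') (π' : I' ⟶ Q')
    (w : α ≫ π = 0) (w' : α' ≫ π' = 0) (hS : (ShortComplex.mk α π w).ShortExact) (hS' : (ShortComplex.mk α' π' w').ShortExact)
    [Injective I] (c : CS J w₀ M F) (β : ZJ J ⟶ Q') : ∃ g : ZJ J ⟶ I', g ≫ π' = β := by
  have hM : ∀ (n : ℕ) (m : M), n ≠ 0 → n • m = 0 → m = 0 := torsionFree
  have ex1 : ∀ Y : C, Function.Injective (α.hom.app (op Y)) ∧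
      ∀ s, π.hom.app (op Y) s = 0 ↔ ∃ t, α.hom.app (op Y) t = s := exact_app hS
  have ex2 : ∀ Y : C, Function.Injective (α'.hom.app (op Y)) ∧
      ∀ s, π'.hom.app (op Y) s = 0 ↔ ∃ t, α'.hom.app (op Y) t = s := exact_app hS'
  have hI := injective_obj I
  obtain ⟨V₀, hV₀⟩ := p.ex
  obtain ⟨V, f₀, hV, ⟨e', he₀⟩, -⟩ := p.ref V₀ hV₀ _ (lift_mem hS' (one β V₀))
  have he' : π'.hom.app (op V) e' = one β V :=
    (show π'.hom.app (op V) e' = Q'.obj.map f₀.op (one β V₀) from he₀).trans (one_map β f₀)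
  have hVg := p.good_of_conn V hV
  have hfin : Finite (w₀ ⟶ V) := p.fin V hVg
  have := Fintype.ofFinite (w₀ ⟶ V)
  obtain ⟨P, a, b, hP, hu⟩ := p.prod V V hVg hVg
  choose pr hpr hpru using fun {Y : C} (x y : Y ⟶ V) => hu x y
  have hprc : ∀ {Y Z : C} (h : Z ⟶ Y) (x y : Y ⟶ V), h ≫ pr x y = pr (h ≫ x) (h ≫ y) := fun {Y Z} h x y =>
    hpru _ _ _ (by rw [Category.assoc, (hpr x y).1]) (by rw [Category.assoc, (hpr x y).2])
  have hprab : ∀ {Y : C} (h : Y ⟶ P), pr (h ≫ a) (h ≫ b) = h := fun {Y} h => (hpru _ _ h rfl rfl).symm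
  obtain ⟨c', hc'⟩ := ((ex2 P).2 (I'.obj.map b.op e' - I'.obj.map a.op e')).1 (by
    rw [map_sub, nat_apply, nat_apply, he', one_map, one_map, sub_self])
  obtain ⟨e₀, he₀'⟩ := surj_good p hM hS c hP c'
  have he₀' : π.hom.app (op P) e₀ = c' := he₀'
  let E : ∀ {Y : C}, (Y ⟶ V) → (Y ⟶ V) → I.obj.obj (op Y) := fun {Y} x y => I.obj.map (pr x y).op e₀
  have hEn : ∀ {Y Z : C} (h : Z ⟶ Y) (x y : Y ⟶ V), I.obj.map h.op (E x y) = E (h ≫ x) (h ≫ y) := fun {Y Z} h x y => by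
    change I.obj.map h.op (I.obj.map (pr x y).op e₀) = I.obj.map (pr (h ≫ x) (h ≫ y)).op e₀
    rw [map_map_apply, hprc]
  have hE : ∀ {Y : C} (x y : Y ⟶ V), α'.hom.app (op Y) (π.hom.app (op Y) (E x y)) =
      I'.obj.map y.op e' - I'.obj.map x.op e' := fun {Y} x y => by
    change α'.hom.app (op Y) (π.hom.app (op Y) (I.obj.map (pr x y).op e₀)) = _
    rw [nat_apply, he₀', nat_apply, hc', map_sub, map_map_apply, map_map_apply, (hpr x y).1, (hpr x y).2]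
  have hg0 : ∀ {Y : C} (x y z : Y ⟶ V), π.hom.app (op Y) (E y z - E x z + E x y) = 0 := fun {Y} x y z => by
    apply (ex2 Y).1
    rw [map_add, map_sub, map_add, map_sub, hE, hE, hE, map_zero]
    abel
  -- the cocycle on points
  have hG : ∀ x y z : w₀ ⟶ V, ∃ m : M, α.hom.app (op w₀) (c.κ w₀ m) = E y z - E x z + E x y := fun x y z => by
    obtain ⟨t, ht⟩ := ((ex1 w₀).2 _).1 (hg0 x y z)
    obtain ⟨m, rfl⟩ := exists_value p c t
    exact ⟨m, ht⟩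
  choose G hG using hG
  have hinj : Function.Injective fun m => α.hom.app (op w₀) (c.κ w₀ m) := (ex1 w₀).1.comp c.inj
  have hGn : ∀ (g : w₀ ⟶ w₀) (x y z : w₀ ⟶ V), G (g ≫ x) (g ≫ y) (g ≫ z) = G x y z := fun g x y z => by
    apply hinj
    dsimp only
    rw [hG, ← hEn, ← hEn, ← hEn, ← map_sub, ← map_add, ← hG, ← nat_apply α.hom g, c.map]
  have hGc : ∀ x y z v : w₀ ⟶ V, G y z v - G x z v + G x y v - G x y z = 0 := fun x y z v => by
    apply hinj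
    dsimp only
    rw [map_sub, map_add, map_sub, map_sub, map_add, map_sub, hG, hG, hG, hG, map_zero, map_zero]
    abel
  have hne : (Fintype.card (w₀ ⟶ V) : ℚ) ≠ 0 := by
    obtain ⟨x⟩ := p.ne V hV
    have : Nonempty (w₀ ⟶ V) := ⟨x⟩
    exact_mod_cast Fintype.card_ne_zero
  let H : (w₀ ⟶ V) → (w₀ ⟶ V) → M := fun y z => (Fintype.card (w₀ ⟶ V) : ℚ)⁻¹ • ∑ x : w₀ ⟶ V, G x y z
  have hH : ∀ y z v : w₀ ⟶ V, H z v - H y v + H y z = G y z v := fun y z v => by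
    change (Fintype.card (w₀ ⟶ V) : ℚ)⁻¹ • ∑ x : w₀ ⟶ V, G x z v - (Fintype.card (w₀ ⟶ V) : ℚ)⁻¹ • ∑ x : w₀ ⟶ V, G x y v +
      (Fintype.card (w₀ ⟶ V) : ℚ)⁻¹ • ∑ x : w₀ ⟶ V, G x y z = G y z v
    rw [← smul_sub, ← smul_add, ← Finset.sum_sub_distrib, ← Finset.sum_add_distrib]
    have h1 : ∀ x : w₀ ⟶ V, G x z v - G x y v + G x y z = G y z v := fun x => by
      rw [← sub_eq_zero, ← neg_eq_zero, ← hGc x y z v]
      abel
    rw [Finset.sum_congr rfl fun x _ => h1 x, Finset.sum_const, Finset.card_univ, ← Nat.cast_smul_eq_nsmul ℚ, smul_smul,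
      inv_mul_cancel₀ hne, one_smul]
  have hHn : ∀ (g : w₀ ⟶ w₀) (y z : w₀ ⟶ V), H (g ≫ y) (g ≫ z) = H y z := fun g y z => by
    have := p.iso g
    let φ : (w₀ ⟶ V) ≃ (w₀ ⟶ V) :=
      { toFun := fun x => g ≫ x
        invFun := fun x => inv g ≫ x
        left_inv := fun x => by simp
        right_inv := fun x => by simp }
    change (Fintype.card (w₀ ⟶ V) : ℚ)⁻¹ • ∑ x : w₀ ⟶ V, G x (g ≫ y) (g ≫ z) =
      (Fintype.card (w₀ ⟶ V) : ℚ)⁻¹ • ∑ x : w₀ ⟶ V, G x y z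
    congr 1
    refine (Equiv.sum_comp φ (fun x => G x (g ≫ y) (g ≫ z))).symm.trans ?_
    exact Finset.sum_congr rfl fun x _ => hGn g x y z
  obtain ⟨hp', hhp⟩ := exists_section p c hP (fun x => H (x ≫ a) (x ≫ b)) (fun g x => by
    rw [Category.assoc, Category.assoc, hHn])
  let E₁ : ∀ {Y : C}, (Y ⟶ V) → (Y ⟶ V) → I.obj.obj (op Y) := fun {Y} x y =>
    E x y - α.hom.app (op Y) (F.obj.map (pr x y).op hp')
  have hE₁n : ∀ {Y Z : C} (h : Z ⟶ Y) (x y : Y ⟶ V), I.obj.map h.op (E₁ x y) = E₁ (h ≫ x) (h ≫ y) := fun {Y Z} h x y => by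
    change I.obj.map h.op (E x y - α.hom.app (op Y) (F.obj.map (pr x y).op hp')) =
      E (h ≫ x) (h ≫ y) - α.hom.app (op Z) (F.obj.map (pr (h ≫ x) (h ≫ y)).op hp')
    rw [map_sub, hEn, ← nat_apply, map_map_apply, hprc]
  have hE₁π : ∀ {Y : C} (x y : Y ⟶ V), π.hom.app (op Y) (E₁ x y) = π.hom.app (op Y) (E x y) := fun {Y} x y => by
    change π.hom.app (op Y) (E x y - α.hom.app (op Y) (F.obj.map (pr x y).op hp')) = _
    rw [map_sub, ((ex1 Y).2 _).2 ⟨_, rfl⟩, sub_zero]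
  have hE₁w : ∀ (x y : w₀ ⟶ V), E₁ x y = E x y - α.hom.app (op w₀) (c.κ w₀ (H x y)) := fun x y => by
    change E x y - α.hom.app (op w₀) (F.obj.map (pr x y).op hp') = _
    rw [hhp, (hpr x y).1, (hpr x y).2]
  -- the universal triple
  obtain ⟨P₃, u, z₃, hP₃, hu₃⟩ := p.prod P V hP hVg
  have h3 : E₁ (u ≫ b) z₃ - E₁ (u ≫ a) z₃ + E₁ (u ≫ a) (u ≫ b) = 0 := by
    obtain ⟨t, ht⟩ := ((ex1 P₃).2 (E₁ (u ≫ b) z₃ - E₁ (u ≫ a) z₃ + E₁ (u ≫ a) (u ≫ b))).1 (by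
      rw [map_add, map_sub, hE₁π, hE₁π, hE₁π, ← map_sub, ← map_add, hg0])
    have ht0 : t = 0 := by
      refine eq_zero p c hP₃ t fun s => ?_
      apply (ex1 w₀).1
      rw [nat_apply, ht, map_add, map_sub, hE₁n, hE₁n, hE₁n, hE₁w, hE₁w, hE₁w, map_zero]
      have h4 := hG (s ≫ u ≫ a) (s ≫ u ≫ b) (s ≫ z₃)
      rw [← hH, map_add, map_sub, map_add, map_sub] at h4
      rw [← sub_eq_zero] at h4
      rw [← neg_eq_zero, ← h4]
      abel
    rw [← ht, ht0, map_zero]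
  have h3' : ∀ {Y : C} (x y z : Y ⟶ V), E₁ x y + E₁ y z = E₁ x z := fun {Y} x y z => by
    obtain ⟨k, ⟨hk1, hk2⟩, -⟩ := hu₃ (pr x y) z
    have h4 := congrArg (I.obj.map k.op) h3
    rw [map_zero, map_add, map_sub, hE₁n, hE₁n, hE₁n, ← Category.assoc, ← Category.assoc, hk1, hk2, (hpr x y).1,
      (hpr x y).2, sub_add_eq_add_sub, sub_eq_zero] at h4
    rw [← h4, add_comm]
  obtain ⟨i, hi⟩ := exists_cob (P := I.obj) (V := V) (fun {Y} x y => E₁ x y) hE₁n h3'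
  let e'' : I'.obj.obj (op V) := e' - α'.hom.app (op V) (π.hom.app (op V) i)
  have he'' : ∀ {Y : C} (x y : Y ⟶ V), I'.obj.map x.op e'' = I'.obj.map y.op e'' := fun {Y} x y => by
    change I'.obj.map x.op (e' - α'.hom.app (op V) (π.hom.app (op V) i)) =
      I'.obj.map y.op (e' - α'.hom.app (op V) (π.hom.app (op V) i))
    rw [map_sub, map_sub, ← nat_apply, ← nat_apply, ← nat_apply, ← nat_apply]
    have h5 := hE x y
    rw [← hE₁π, hi x y, map_sub, map_sub] at h5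
    rw [← sub_eq_zero] at h5 ⊢
    rw [← h5]
    abel
  obtain ⟨g, hg⟩ := glueOne (p.cov V hV) e'' (fun v w => he'' v w)
  refine ⟨g, one_ext (p.cov V hV) ?_⟩
  rw [one_comp, hg]
  change π'.hom.app (op V) (e' - α'.hom.app (op V) (π.hom.app (op V) i)) = _
  rw [map_sub, ((ex2 V).2 _).2 ⟨_, rfl⟩, sub_zero, he']

end K289.GerbAv
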