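import Groth.Agent.StCoh.K289.FieldSch
import Groth.Agent.Gerb.K895.Fppf
import Groth.Agent.Gerb.K895.Equiv
import Groth.Agent.Stk.K751.Rest
import Groth.Prelude.Def_StCoh

/-!
# Finite objects of a gerbe over a field
-/

set_option autoImplicit false
set_option backward.isDefEq.respectTransparency false
set_option backward.isDefEq.respectTransparency.types false

universe w v u

open CategoryTheory CategoryTheory.Limits AlgebraicGeometry Opposite K751.FG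

namespace K289.GerbLoc

section Gen

variable {S : Scheme.{u}} {𝒢 : AlgSt.Cat S} (hp : FibCat.IsFibGrpd 𝒢.p)

include hp

/-- lifting -/
theorem lift_ex (V : 𝒢.obj) {T : Over S} (g : T ⟶ 𝒢.p.obj V) :
    ∃ (z : 𝒢.obj) (a : z ⟶ V) (e : 𝒢.p.obj z ≅ T), 𝒢.p.map a = e.hom ≫ g := by
  obtain ⟨z, a, ha⟩ := hp.exists_lift g
  refine ⟨z, a, eqToIso (IsHomLift.domain_eq 𝒢.p g a), ?_⟩
  have := IsHomLift.fac' 𝒢.p g a
  simpa using this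

/-- membership in the topology -/
theorem mem_of (V : 𝒢.obj) {K : Precoverage Scheme.{u}} (R : Sieve V) (R₀ : Sieve (𝒢.p.obj V))
    (h₀ : R₀ ∈ QuotSh.J K S (𝒢.p.obj V)) (h : ∀ ⦃z : 𝒢.obj⦄ (a : z ⟶ V), R₀ (𝒢.p.map a) → R a) :
    R ∈ StCoh.J K 𝒢 V :=
  (K751.Rest.mem_restrictedTopology_iff' hp R).2 ⟨R₀, h₀, h⟩

theorem of_mem (V : 𝒢.obj) {K : Precoverage Scheme.{u}} {R : Sieve V} (hR : R ∈ StCoh.J K 𝒢 V) :
    ∃ R₀ ∈ QuotSh.J K S (𝒢.p.obj V), ∀ ⦃z : 𝒢.obj⦄ (a : z ⟶ V), R₀ (𝒢.p.map a) → R a :=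
  (K751.Rest.mem_restrictedTopology_iff' hp R).1 hR

/-- an empty object has the empty covering -/
theorem bot_mem (V : 𝒢.obj) (h : IsEmpty (𝒢.p.obj V).left) : ⊥ ∈ StCoh.J Scheme.fppfPrecoverage 𝒢 V := by
  refine mem_of hp V _ ⊥ (K895.Fppf.mem_of_family (I := PEmpty) (fun i => i.elim) (fun i => i.elim) (fun i => i.elim)
    (fun i => i.elim) (fun i => i.elim) fun t => h.elim t) fun z a ha => ha

/-- fibre products -/
theorem pull_ex {Z W : 𝒢.obj} (f : Z ⟶ W) : ∃ (P : 𝒢.obj) (a b : P ⟶ Z),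
    IsPullback (𝒢.p.map a) (𝒢.p.map b) (𝒢.p.map f) (𝒢.p.map f) ∧ a ≫ f = b ≫ f ∧
      ∀ {Y : 𝒢.obj} (x y : Y ⟶ Z), x ≫ f = y ≫ f → ∃ h : Y ⟶ P, h ≫ a = x ∧ h ≫ b = y := by
  obtain ⟨P, a, e, ha⟩ := lift_ex hp Z (pullback.fst (𝒢.p.map f) (𝒢.p.map f))
  obtain ⟨b, hb, hb'⟩ := exists_factor_map hp f (a ≫ f) (e.hom ≫ pullback.snd (𝒢.p.map f) (𝒢.p.map f)) (by
    rw [Functor.map_comp, ha, Category.assoc, Category.assoc, pullback.condition])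
  refine ⟨P, a, b, ?_, hb'.symm, fun {Y} x y hxy => ?_⟩
  · exact IsPullback.of_iso (IsPullback.of_hasPullback (𝒢.p.map f) (𝒢.p.map f)) e.symm (Iso.refl _) (Iso.refl _)
      (Iso.refl _) (by simp [ha]) (by simp [hb]) (by simp) (by simp)
  · have hxy' : 𝒢.p.map x ≫ 𝒢.p.map f = 𝒢.p.map y ≫ 𝒢.p.map f := by rw [← Functor.map_comp, hxy, Functor.map_comp]
    obtain ⟨h, hh, hh'⟩ := exists_factor_map hp a x (pullback.lift _ _ hxy' ≫ e.inv) (by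
      rw [ha, Category.assoc, Iso.inv_hom_id_assoc, pullback.lift_fst])
    refine ⟨h, hh', cancel hp f ?_ ?_⟩
    · rw [Functor.map_comp, hh, hb, Category.assoc, Iso.inv_hom_id_assoc, pullback.lift_snd]
    · rw [Category.assoc, hb', ← Category.assoc, hh', hxy]

/-- local comparison of objects -/
theorem locHom {K : Precoverage Scheme.{u}} (hH : Gerb.LocSurjHom (QuotSh.J K S) (FibCat.toSelf 𝒢)) (z z' : 𝒢.obj)
    {T : Over S} (t : T ⟶ 𝒢.p.obj z) (t' : T ⟶ 𝒢.p.obj z') : ∃ R ∈ QuotSh.J K S T, ∀ ⦃V : Over S⦄ (f : V ⟶ T), R f →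
      ∃ (Y : 𝒢.obj) (a : Y ⟶ z) (b : Y ⟶ z') (e : 𝒢.p.obj Y ≅ V), 𝒢.p.map a = e.hom ≫ f ≫ t ∧
        𝒢.p.map b = e.hom ≫ f ≫ t' := by
  obtain ⟨z₁, a₁, ha₁⟩ := hp.exists_lift t
  obtain ⟨z₂, a₂, ha₂⟩ := hp.exists_lift t'
  obtain ⟨R, hR, h⟩ := K895.Equiv.locSurjHom_toSelf_iff.1 hH T z₁ z₂ (IsHomLift.domain_eq 𝒢.p t a₁)
    (IsHomLift.domain_eq 𝒢.p t' a₂)
  refine ⟨R, hR, fun V f hf => ?_⟩
  obtain ⟨Y, φ, ψ, hφ, hψ⟩ := h f hf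
  have h1 : 𝒢.p.IsHomLift (f ≫ t) (φ ≫ a₁) := IsHomLift.comp 𝒢.p f t φ a₁
  have h2 : 𝒢.p.IsHomLift (f ≫ t') (ψ ≫ a₂) := IsHomLift.comp 𝒢.p f t' ψ a₂
  refine ⟨Y, φ ≫ a₁, ψ ≫ a₂, eqToIso (IsHomLift.domain_eq 𝒢.p f φ), ?_, ?_⟩
  · have := IsHomLift.fac' 𝒢.p (f ≫ t) (φ ≫ a₁)
    simpa using this
  · have := IsHomLift.fac' 𝒢.p (f ≫ t') (ψ ≫ a₂)
    simpa using this

end Gen

end K289.GerbLoc
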