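import Groth.Agent.Gerb.K894.Diag
import Groth.Agent.Gerb.K895.Restr
import Groth.Agent.AlgSp.K628.Props
import Groth.Agent.AlgSp.K636.NormLocal

/-!
# The diagonal of a gerbe with finite inertia is finite
-/

set_option autoImplicit false
set_option backward.isDefEq.respectTransparency false
set_option backward.isDefEq.respectTransparency.types false

universe u

open CategoryTheory CategoryTheory.Limits AlgebraicGeometry Opposite K735.Fib K735.Fp K735.Rep K735.Pts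

namespace K289.GerbeFin

open K894.GoodP K894.BCRep K594.Cover K894.Loc K894.LocSurj K894.Span K894.Core K894.Formal K894.GerbeQ

variable {S : Scheme.{u}} {𝒳 : AlgSt.Cat S}

theorem bc_isFiniteMor : BC (S := S) AlgSp.IsFiniteMor := fun _ _ _ _ _ _ _ _ _ _ _ _ sq h =>
  K636.NormLocal.isFiniteMor_of_isPullback sq h

/-- The diagonal of a gerbe with finite inertia is finite. -/
theorem finite_diag (h𝒳 : AlgSt.IsAlgStack Scheme.fppfPrecoverage 𝒳)
    (hg : Gerb.LocSurjHom (QuotSh.J Scheme.fppfPrecoverage S) (FibCat.toSelf 𝒳))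
    (hI : AlgSt.RepByAlgSpWith AlgSp.IsFiniteMor (FibCat.inertiaToBase (FibCat.toSelf 𝒳))) :
    AlgSt.RepByAlgSpWith AlgSp.IsFiniteMor (FibCat.diag (FibCat.toSelf 𝒳)) := by
  intro U y
  have i1 : FibCat.IsFibGrpd 𝒳.p := h𝒳.isStack.1
  have i2 : FibCat.IsFibGrpd (FibCat.selfOver (Over S)).p := K735.Fp.isFibGrpd_selfOver
  have i3 : FibCat.IsFibGrpd (FibCat.fp (FibCat.toSelf 𝒳) (FibCat.toSelf 𝒳)).p := K735.Fp.isFibGrpd_fp i1 i1 i2 _ _
  have hΔ : AlgSt.RepByAlgSp1 (FibCat.diag (FibCat.toSelf 𝒳)) := h𝒳.diag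
  obtain ⟨R, hR, h⟩ := exists_lift_of_locSurjObj (locSurjHom_iff_diag (F := FibCat.toSelf 𝒳) |>.1 hg) y
  refine repOver_fp_of_sieve (isLocalOnBase_fppf_of_fpqc K628.Props.isLocalOnBase_isFiniteMor) bc_isFiniteMor
    (FibCat.diag (FibCat.toSelf 𝒳)) y (hΔ U y) hR fun T s hs => ?_
  obtain ⟨z, ⟨e⟩⟩ := h s hs
  refine repOver_congr e _ ?_
  have h1 : RepOver AlgSp.IsFiniteMor (FibCat.fpFst z (FibCat.inertiaToBase (FibCat.toSelf 𝒳))) := hI T z
  exact h1.of_equiv (K743.BC.cmp (FibCat.inertiaToBase (FibCat.toSelf 𝒳)) (FibCat.diag (FibCat.toSelf 𝒳))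
    (FibCat.inertiaToBase (FibCat.toSelf 𝒳)) (FibCat.diag (FibCat.toSelf 𝒳))
    (K894.Inertia.tautE (FibCat.toSelf 𝒳)) z)
    ((K894.Inertia.inertia_isCart (FibCat.toSelf 𝒳)).cmp_isEquivOver z) (Iso.refl _)

end K289.GerbeFin
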