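import Groth.Agent.StCoh.K289.GerbPt
import Groth.Agent.StCoh.K289.GerbeFin
import Groth.Agent.IsoNat.K862.RepAr

/-!
# Products of objects of a category fibred in groupoids with finite diagonal
-/

set_option autoImplicit false
set_option backward.isDefEq.respectTransparency false
set_option backward.isDefEq.respectTransparency.types false
set_option linter.unusedSectionVars false

universe w v u

open CategoryTheory CategoryTheory.Limits AlgebraicGeometry Opposite K751.FG K289.GerbLoc K289.FieldSch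

namespace K289.GerbProd

section Gen

variable {S : Scheme.{u}} {𝒢 : AlgSt.Cat S} (hp : FibCat.IsFibGrpd 𝒢.p)
  (hΔ : AlgSt.RepByAlgSpWith AlgSp.IsFiniteMor (FibCat.diag (FibCat.toSelf 𝒢)))

theorem sec_yon {T T' : Over S} (f : T' ⟶ T) : K607.sec ((AlgSp.yon S).map f) = ⟨f⟩ := by
  have h := K607.sec_map f (𝟙 ((AlgSp.yon S).obj T))
  rw [Category.comp_id] at h
  rw [h]
  change ((AlgSp.yon S).obj T).obj.map f.op ⟨𝟙 T⟩ = _
  apply ULift.ext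
  exact Category.comp_id f

include hp hΔ in
/-- The isomorphisms between two objects over an affine scheme are represented by a finite scheme. -/
theorem isom_obj {B : Over S} (hB : IsAffine B.left) (s t : 𝒢.p.Fiber B) :
    ∃ (P : 𝒢.obj) (i : 𝒢.p.obj P ⟶ B) (a : P ⟶ s.1) (b : P ⟶ t.1), 𝒢.p.IsHomLift i a ∧ 𝒢.p.IsHomLift i b ∧
      IsFinite i.left ∧
      (∀ {Y : 𝒢.obj} (g : 𝒢.p.obj Y ⟶ B) (x : Y ⟶ s.1) (y : Y ⟶ t.1), 𝒢.p.IsHomLift g x → 𝒢.p.IsHomLift g y →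
        ∃ h : Y ⟶ P, h ≫ a = x ∧ h ≫ b = y) ∧
      (∀ {Y : 𝒢.obj} (h h' : Y ⟶ P), h ≫ a = h' ≫ a → h ≫ b = h' ≫ b → h = h') := by
  obtain ⟨F, R, hR⟩ := K862.exists_isomRep s t hΔ
  obtain ⟨A, i, fst, sq, -, hi⟩ := hR hB (𝟙 _)
  have hfst : IsIso fst := sq.isIso_fst_of_isIso
  obtain ⟨g, z, a, b, ha, hb, hσ⟩ := R.sec_surj (K607.sec fst)
  have hgi : g = i := by
    have h1 := K607.sec_comp fst R.π
    rw [← hσ, R.sec_π, sq.w, Category.comp_id, sec_yon] at h1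
    exact (congrArg ULift.down h1).symm
  subst hgi
  have hA : 𝒢.p.obj z.1 = A := z.2
  have yo : ∀ {T : Over S} (τ : F.obj.obj.obj (op T)), ∃ h₀ : T ⟶ A, F.obj.obj.map h₀.op (K607.sec fst) = τ := fun {T} τ => by
    obtain ⟨h₀, hh₀⟩ := (AlgSp.yon S).map_surjective (K607.pt τ ≫ inv fst)
    refine ⟨h₀, ?_⟩
    rw [← K607.sec_map, hh₀, Category.assoc, IsIso.inv_hom_id, Category.comp_id, K607.sec_pt]
  have yu : ∀ {T : Over S} (h₀ h₀' : T ⟶ A), F.obj.obj.map h₀.op (K607.sec fst) = F.obj.obj.map h₀'.op (K607.sec fst) →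
      h₀ = h₀' := fun {T} h₀ h₀' h => by
    rw [← K607.sec_map, ← K607.sec_map] at h
    have h1 := K607.sec_injective h
    rw [cancel_mono] at h1
    exact (AlgSp.yon S).map_injective h1
  refine ⟨z.1, eqToHom hA ≫ g, a, b, ?_, ?_, ?_, ?_, ?_⟩
  · exact IsHomLift.of_fac' 𝒢.p _ _ rfl s.2 (by
      have := IsHomLift.fac' 𝒢.p g a
      simpa using this)
  · exact IsHomLift.of_fac' 𝒢.p _ _ rfl t.2 (by
      have := IsHomLift.fac' 𝒢.p g b
      simpa using this)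
  · have : IsFinite g.left := hi
    rw [Over.comp_left]
    infer_instance
  · intro Y g' x y hx hy
    obtain ⟨h₀, hh₀⟩ := yo (R.sec g' (⟨Y, rfl⟩ : 𝒢.p.Fiber (𝒢.p.obj Y)) x y hx hy)
    obtain ⟨z'', c, hc⟩ := K862.Fib.exists_pull h₀ z
    rw [← hσ, R.sec_map h₀ g z'' z c a b hc ha hb (IsHomLift.comp 𝒢.p h₀ g c a) (IsHomLift.comp 𝒢.p h₀ g c b)] at hh₀
    obtain ⟨θ, h1, h2⟩ := (R.sec_eq_iff _ _ _ _ _ _ _ _ _ _ _ _).1 hh₀.symm
    exact ⟨θ.1 ≫ c, by rw [Category.assoc, h1], by rw [Category.assoc, h2]⟩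
  · intro Y h h' h1 h2
    have key : ∀ h : Y ⟶ z.1, 𝒢.p.IsHomLift (𝒢.p.map h ≫ eqToHom hA) h := fun h =>
      IsHomLift.of_fac' 𝒢.p _ _ rfl z.2 (by simp)
    have hh := key h
    have hh' := key h'
    have e1 := R.sec_map (𝒢.p.map h ≫ eqToHom hA) g (⟨Y, rfl⟩ : 𝒢.p.Fiber (𝒢.p.obj Y)) z h a b hh ha hb
      (IsHomLift.comp 𝒢.p _ g h a) (IsHomLift.comp 𝒢.p _ g h b)
    have e2 := R.sec_map (𝒢.p.map h' ≫ eqToHom hA) g (⟨Y, rfl⟩ : 𝒢.p.Fiber (𝒢.p.obj Y)) z h' a b hh' ha hb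
      (IsHomLift.comp 𝒢.p _ g h' a) (IsHomLift.comp 𝒢.p _ g h' b)
    have e3 : F.obj.obj.map (𝒢.p.map h ≫ eqToHom hA).op (R.sec g z a b ha hb) =
        F.obj.obj.map (𝒢.p.map h' ≫ eqToHom hA).op (R.sec g z a b ha hb) := by
      rw [e1, e2]
      exact R.sec_congr _ _ _ _ h1 h2
    rw [hσ] at e3
    have e4 := yu _ _ e3
    rw [cancel_mono] at e4
    exact cancel hp a e4 h1

include hp hΔ in
/-- products -/
theorem prod_ex (V W : 𝒢.obj) (hB : IsAffine (pullback (𝒢.p.obj V).hom (𝒢.p.obj W).hom)) :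
    ∃ (P : 𝒢.obj) (a : P ⟶ V) (b : P ⟶ W) (i : (𝒢.p.obj P).left ⟶ pullback (𝒢.p.obj V).hom (𝒢.p.obj W).hom),
      IsFinite i ∧ (𝒢.p.map a).left = i ≫ pullback.fst _ _ ∧ (𝒢.p.map b).left = i ≫ pullback.snd _ _ ∧
      ∀ {Y : 𝒢.obj} (x : Y ⟶ V) (y : Y ⟶ W), ∃ h : Y ⟶ P, (h ≫ a = x ∧ h ≫ b = y) ∧
        ∀ h' : Y ⟶ P, h' ≫ a = x → h' ≫ b = y → h' = h := by
  let B : Over S := Over.mk (pullback.fst (𝒢.p.obj V).hom (𝒢.p.obj W).hom ≫ (𝒢.p.obj V).hom)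
  let q₁ : B ⟶ 𝒢.p.obj V := Over.homMk (pullback.fst (𝒢.p.obj V).hom (𝒢.p.obj W).hom)
  let q₂ : B ⟶ 𝒢.p.obj W := Over.homMk (pullback.snd (𝒢.p.obj V).hom (𝒢.p.obj W).hom) pullback.condition.symm
  obtain ⟨z₁, c₁, hc₁⟩ := hp.exists_lift q₁
  obtain ⟨z₂, c₂, hc₂⟩ := hp.exists_lift q₂
  obtain ⟨P, i, a', b', ha', hb', hi, hex, huq⟩ := isom_obj hp hΔ (B := B) hB
    (⟨z₁, IsHomLift.domain_eq 𝒢.p q₁ c₁⟩ : 𝒢.p.Fiber B) (⟨z₂, IsHomLift.domain_eq 𝒢.p q₂ c₂⟩ : 𝒢.p.Fiber B)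
  have ea : 𝒢.p.map (a' ≫ c₁) = i ≫ q₁ := map_eq_of_isHomLift (a' ≫ c₁) (IsHomLift.comp 𝒢.p i q₁ a' c₁)
  have eb : 𝒢.p.map (b' ≫ c₂) = i ≫ q₂ := map_eq_of_isHomLift (b' ≫ c₂) (IsHomLift.comp 𝒢.p i q₂ b' c₂)
  have hext : ∀ {T : Over S} (g g' : T ⟶ B), g ≫ q₁ = g' ≫ q₁ → g ≫ q₂ = g' ≫ q₂ → g = g' := fun {T} g g' h1 h2 => by
    ext1
    exact pullback.hom_ext (congrArg (fun t => t.left) h1) (congrArg (fun t => t.left) h2)
  refine ⟨P, a' ≫ c₁, b' ≫ c₂, i.left, hi, congrArg (fun t => t.left) ea, congrArg (fun t => t.left) eb, fun {Y} x y => ?_⟩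
  let g : 𝒢.p.obj Y ⟶ B := Over.homMk (pullback.lift (𝒢.p.map x).left (𝒢.p.map y).left
    ((Over.w (𝒢.p.map x)).trans (Over.w (𝒢.p.map y)).symm)) (by
      change pullback.lift _ _ _ ≫ pullback.fst _ _ ≫ _ = _
      rw [← Category.assoc, pullback.lift_fst]
      exact Over.w (𝒢.p.map x))
  have hg1 : g ≫ q₁ = 𝒢.p.map x := by
    ext1
    exact pullback.lift_fst _ _ _
  have hg2 : g ≫ q₂ = 𝒢.p.map y := by
    ext1
    exact pullback.lift_snd _ _ _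
  obtain ⟨x', hx', ex'⟩ := exists_factor hp g hg1 c₁ x hc₁ inferInstance
  obtain ⟨y', hy', ey'⟩ := exists_factor hp g hg2 c₂ y hc₂ inferInstance
  obtain ⟨h, h1, h2⟩ := hex g x' y' hx' hy'
  refine ⟨h, ⟨by rw [← Category.assoc, h1, ex'], by rw [← Category.assoc, h2, ey']⟩, fun h' e1 e2 => ?_⟩
  have hh : 𝒢.p.map h' ≫ i = g := by
    apply hext
    · rw [Category.assoc, ← ea, ← Functor.map_comp, e1, hg1]
    · rw [Category.assoc, ← eb, ← Functor.map_comp, e2, hg2]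
  refine huq h' h ?_ ?_
  · rw [h1]
    have h5 : 𝒢.p.IsHomLift (𝒢.p.map h' ≫ i) (h' ≫ a') := IsHomLift.comp 𝒢.p _ i h' a'
    rw [hh] at h5
    exact cancel' hp g c₁ h5 hx' (by rw [Category.assoc, e1, ex'])
  · rw [h2]
    have h5 : 𝒢.p.IsHomLift (𝒢.p.map h' ≫ i) (h' ≫ b') := IsHomLift.comp 𝒢.p _ i h' b'
    rw [hh] at h5
    exact cancel' hp g c₂ h5 hy' (by rw [Category.assoc, e2, ey'])

end Gen

section Field

open K289.GerbPt

variable {k : Type u} [Field k] {𝒢 : AlgSt.Cat (Spec (CommRingCat.of k))} (hp : FibCat.IsFibGrpd 𝒢.p)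
  (hO : Gerb.LocSurjObj (QuotSh.J Scheme.fppfPrecoverage (Spec (CommRingCat.of k))) (FibCat.toSelf 𝒢))
  (hH : Gerb.LocSurjHom (QuotSh.J Scheme.fppfPrecoverage (Spec (CommRingCat.of k))) (FibCat.toSelf 𝒢))
  (hΔ : AlgSt.RepByAlgSpWith AlgSp.IsFiniteMor (FibCat.diag (FibCat.toSelf 𝒢)))
  {w₀ : 𝒢.obj} (e₀ : 𝒢.p.obj w₀ ≅ G k)

include hp hΔ in
theorem prod {V W : 𝒢.obj} (hV : good V) (hW : good W) : ∃ (P : 𝒢.obj) (a : P ⟶ V) (b : P ⟶ W), good P ∧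
    ∀ {Y : 𝒢.obj} (x : Y ⟶ V) (y : Y ⟶ W), ∃ h : Y ⟶ P, (h ≫ a = x ∧ h ≫ b = y) ∧
      ∀ h' : Y ⟶ P, h' ≫ a = x → h' ≫ b = y → h' = h := by
  have : IsFinite (𝒢.p.obj V).hom := hV
  have : IsFinite (𝒢.p.obj W).hom := hW
  have h1 : IsFinite (pullback.fst (𝒢.p.obj V).hom (𝒢.p.obj W).hom ≫ (𝒢.p.obj V).hom) := inferInstance
  have hB : IsAffine (pullback (𝒢.p.obj V).hom (𝒢.p.obj W).hom) :=
    isAffine_of_isAffineHom (pullback.fst (𝒢.p.obj V).hom (𝒢.p.obj W).hom ≫ (𝒢.p.obj V).hom)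
  obtain ⟨P, a, b, i, hi, ha, hb, hu⟩ := prod_ex hp hΔ V W hB
  refine ⟨P, a, b, ?_, hu⟩
  have h2 : (𝒢.p.obj P).hom = i ≫ pullback.fst (𝒢.p.obj V).hom (𝒢.p.obj W).hom ≫ (𝒢.p.obj V).hom := by
    rw [← Over.w (𝒢.p.map a), ha, Category.assoc]
  change IsFinite (𝒢.p.obj P).hom
  rw [h2]
  infer_instance

include hp hΔ e₀ in
theorem fin {V : 𝒢.obj} (hV : good V) : Finite (w₀ ⟶ V) := by
  have : IsFinite (𝒢.p.obj V).hom := hV
  have : IsAffine (G k).left := inferInstanceAs (IsAffine (Spec (CommRingCat.of (AlgebraicClosure k))))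
  have hw : IsAffine (𝒢.p.obj w₀).left := IsAffine.of_isIso e₀.hom.left
  have hB : IsAffine (pullback (𝒢.p.obj w₀).hom (𝒢.p.obj V).hom) :=
    isAffine_of_isAffineHom (pullback.fst (𝒢.p.obj w₀).hom (𝒢.p.obj V).hom)
  obtain ⟨P, a, b, i, hi, ha, hb, hu⟩ := prod_ex hp hΔ w₀ V hB
  have hfin : IsFinite (𝒢.p.map a).left := by
    rw [ha]
    infer_instance
  have hfin' : IsFinite ((𝒢.p.map a).left ≫ e₀.hom.left) := inferInstance
  have h1 := finite_sections (K := AlgebraicClosure k) ((𝒢.p.map a).left ≫ e₀.hom.left)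
  choose pr hpr hpru using fun (v : w₀ ⟶ V) => hu (𝟙 w₀) v
  refine Finite.of_injective (β := {p : Spec (CommRingCat.of (AlgebraicClosure k)) ⟶ (𝒢.p.obj P).left //
    p ≫ ((𝒢.p.map a).left ≫ e₀.hom.left) = 𝟙 _})
    (fun v => ⟨e₀.inv.left ≫ (𝒢.p.map (pr v)).left, ?_⟩) ?_
  · have h2 := congrArg (fun t => (𝒢.p.map t).left) (hpr v).1
    rw [Functor.map_comp, Over.comp_left, CategoryTheory.Functor.map_id, Over.id_left] at h2
    rw [Category.assoc, ← Category.assoc (𝒢.p.map (pr v)).left, h2]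
    have h3 := congrArg (fun t => t.left) e₀.inv_hom_id
    exact (congrArg (e₀.inv.left ≫ ·) (Category.id_comp _)).trans h3
  · intro v v' h
    have h2 : e₀.inv.left ≫ (𝒢.p.map (pr v)).left = e₀.inv.left ≫ (𝒢.p.map (pr v')).left := congrArg Subtype.val h
    rw [cancel_epi] at h2
    have h3 : 𝒢.p.map (pr v) = 𝒢.p.map (pr v') := Over.OverMorphism.ext h2
    have h4 := cancel hp a h3 (by rw [(hpr v).1, (hpr v').1])
    rw [← (hpr v).2, ← (hpr v').2, h4]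

include hp in
theorem pull {Z W : 𝒢.obj} (f : Z ⟶ W) (hZ : good Z) (hW : good W) : ∃ (P : 𝒢.obj) (a b : P ⟶ Z), good P ∧
    a ≫ f = b ≫ f ∧ ∀ {Y : 𝒢.obj} (x y : Y ⟶ Z), x ≫ f = y ≫ f → ∃ h : Y ⟶ P, h ≫ a = x ∧ h ≫ b = y := by
  obtain ⟨P, a, b, sq, hab, hu⟩ := pull_ex hp f
  refine ⟨P, a, b, ?_, hab, hu⟩
  have : IsFinite (𝒢.p.obj Z).hom := hZ
  have : IsFinite (𝒢.p.obj W).hom := hW
  have h1 : IsFinite ((𝒢.p.map f).left ≫ (𝒢.p.obj W).hom) := by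
    rw [Over.w]
    exact hZ
  have h2 : IsFinite (𝒢.p.map f).left := IsFinite.of_comp (𝒢.p.map f).left (𝒢.p.obj W).hom
  have h3 : IsFinite (𝒢.p.map a).left :=
    MorphismProperty.of_isPullback (P := @IsFinite) (sq.map (Over.forget _)).flip h2
  have h4 : (𝒢.p.obj P).hom = (𝒢.p.map a).left ≫ (𝒢.p.obj Z).hom := (Over.w _).symm
  change IsFinite (𝒢.p.obj P).hom
  rw [h4]
  infer_instance

include hp in
theorem dec {P : 𝒢.obj} (hP : good P) : ∃ (ι : Type u) (Z : ι → 𝒢.obj) (f : ∀ i, Z i ⟶ P), (∀ i, conn (Z i)) ∧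
    Sieve.ofArrows Z f ∈ StCoh.J Scheme.fppfPrecoverage 𝒢 P ∧
    (∀ i {Y : 𝒢.obj} (a b : Y ⟶ Z i), a ≫ f i = b ≫ f i → a = b) ∧
    ∀ i j, i ≠ j → ∀ {Y : 𝒢.obj} (a : Y ⟶ Z i) (b : Y ⟶ Z j), a ≫ f i = b ≫ f j →
      ⊥ ∈ StCoh.J Scheme.fppfPrecoverage 𝒢 Y := by
  have hf : IsFinite (𝒢.p.obj P).hom := hP
  have hd : DiscreteTopology (𝒢.p.obj P).left := Groth.Agent.Sga4h.H146.FinPt.discreteTopology (P := (𝒢.p.obj P).left)
    (𝒢.p.obj P).hom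
  let O : (𝒢.p.obj P).left → (𝒢.p.obj P).left.Opens := fun t => ⟨{t}, isOpen_discrete _⟩
  let T : (𝒢.p.obj P).left → Over (Spec (CommRingCat.of k)) := fun t => Over.mk ((O t).ι ≫ (𝒢.p.obj P).hom)
  let g : ∀ t, T t ⟶ 𝒢.p.obj P := fun t => Over.homMk (O t).ι
  have hgm : ∀ (t : (𝒢.p.obj P).left) {T' : Over (Spec (CommRingCat.of k))} (a b : T' ⟶ T t),
      a ≫ g t = b ≫ g t → a = b := fun t {T'} a b h => by
    ext1
    have h1 : a.left ≫ (O t).ι = b.left ≫ (O t).ι := congrArg (fun s => s.left) h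
    exact (cancel_mono _).1 h1
  choose Z f e he using fun t => lift_ex hp P (g t)
  refine ⟨(𝒢.p.obj P).left, Z, f, fun t => ?_, ?_, fun t Y a b h => ?_, fun i j hij Y a b h => ?_⟩
  · have h1 : IsClosedImmersion (O t).ι := IsClosedImmersion.of_isPreimmersion _ (isClosed_discrete _)
    have h2 : IsFinite ((O t).ι ≫ (𝒢.p.obj P).hom) := inferInstance
    have h3 : Subsingleton (O t) := inferInstanceAs (Subsingleton ({t} : Set (𝒢.p.obj P).left))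
    have h4 : Nonempty (O t) := inferInstanceAs (Nonempty ({t} : Set (𝒢.p.obj P).left))
    exact conn_of_iso (e t) h2 h4 h3
  · refine mem_of hp P _ (Sieve.ofArrows T g) ?_ fun z a ha => ?_
    · refine K895.Fppf.mem_of_family (I := ULift.{u + 1} (𝒢.p.obj P).left) (fun t => T t.down) (fun t => g t.down)
        (fun t => Sieve.ofArrows_mk _ _ t.down) (fun t => ?_) (fun t => ?_) fun t => ⟨ULift.up t, ⟨t, rfl⟩, rfl⟩
      · exact inferInstanceAs (Flat (O t.down).ι)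
      · exact inferInstanceAs (LocallyOfFinitePresentation (O t.down).ι)
    · obtain ⟨_, c, _, ⟨t⟩, hc⟩ := ha
      obtain ⟨χ, -, hχ⟩ := exists_factor_map hp (f t) a (c ≫ (e t).inv) (by
        rw [he, Category.assoc, Iso.inv_hom_id_assoc, hc])
      rw [← hχ]
      exact (Sieve.ofArrows Z f).downward_closed (Sieve.ofArrows_mk Z f t) χ
  · refine cancel hp (f t) ?_ h
    have h1 : (𝒢.p.map a ≫ (e t).hom) ≫ g t = (𝒢.p.map b ≫ (e t).hom) ≫ g t := by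
      rw [Category.assoc, Category.assoc, ← he, ← Functor.map_comp, ← Functor.map_comp, h]
    have h2 := hgm t _ _ h1
    rwa [cancel_mono] at h2
  · refine bot_mem hp Y ⟨fun y => hij ?_⟩
    have h1 : (𝒢.p.map a ≫ (e i).hom) ≫ g i = (𝒢.p.map b ≫ (e j).hom) ≫ g j := by
      rw [Category.assoc, Category.assoc, ← he, ← he, ← Functor.map_comp, ← Functor.map_comp, h]
    have h2 := congrArg (fun s => s.left y) h1
    have h3 : ∀ (t : (𝒢.p.obj P).left) (x : (T t).left), (g t).left x = t := fun t x => x.2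
    have h4 : (g i).left ((𝒢.p.map a ≫ (e i).hom).left y) = (g j).left ((𝒢.p.map b ≫ (e j).hom).left y) := by
      rw [← Scheme.Hom.comp_apply, ← Scheme.Hom.comp_apply]
      exact h2
    rw [h3, h3] at h4
    exact h4

include hp hO hH hΔ e₀ in
/-- The geometric point of a gerbe with finite diagonal over a field. -/
theorem pt : GerbAv.Pt (StCoh.J Scheme.fppfPrecoverage 𝒢) w₀ good conn where
  triv R hR := triv' hp e₀ hR
  fin V hV := fin hp hΔ e₀ hV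
  iso g := iso hp e₀ g
  good_of_conn V hV := hV.1
  ne V hV := exists_over' hp hH e₀ V (by have := hV.1; infer_instance) hV.2.1
  trans V hV s t := GerbPt.trans hp hH e₀ hV s t
  cov V hV y := cov hp hH hV y
  ex := exists_conn hp hO
  dens V hV R hR := dens hp hH e₀ hV hR
  ref V hV R hR := ref hp hV hR
  prod V W hV hW := prod hp hΔ hV hW
  pull Z W f hZ hW := pull hp f hZ hW
  dec P hP := dec hp hP

end Field

end K289.GerbProd
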