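import Groth.Agent.StCoh.K289.GerbLoc
import Groth.Agent.StCoh.K289.ConstCS
import Groth.Prelude.Def_StGerb

/-!
# The geometric point of a gerbe over a field
-/

set_option autoImplicit false
set_option backward.isDefEq.respectTransparency false
set_option backward.isDefEq.respectTransparency.types false

set_option linter.unusedSectionVars false

universe w v u

open CategoryTheory CategoryTheory.Limits AlgebraicGeometry Opposite K751.FG K289.GerbLoc K289.FieldSch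

namespace K289.GerbPt

variable {k : Type u} [Field k] {𝒢 : AlgSt.Cat (Spec (CommRingCat.of k))} (hp : FibCat.IsFibGrpd 𝒢.p)
  (hO : Gerb.LocSurjObj (QuotSh.J Scheme.fppfPrecoverage (Spec (CommRingCat.of k))) (FibCat.toSelf 𝒢))
  (hH : Gerb.LocSurjHom (QuotSh.J Scheme.fppfPrecoverage (Spec (CommRingCat.of k))) (FibCat.toSelf 𝒢))

variable (k) in
/-- the geometric point -/
noncomputable abbrev G : Over (Spec (CommRingCat.of k)) := Over.mk (gp k)

/-- objects over finite schemes -/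
def good (V : 𝒢.obj) : Prop := IsFinite (𝒢.p.obj V).hom

/-- objects over finite one point schemes -/
def conn (V : 𝒢.obj) : Prop := IsFinite (𝒢.p.obj V).hom ∧ Nonempty (𝒢.p.obj V).left ∧ Subsingleton (𝒢.p.obj V).left

theorem isFinite_of_iso {T T' : Over (Spec (CommRingCat.of k))} (e : T ≅ T') (h : IsFinite T'.hom) : IsFinite T.hom := by
  have h1 : T.hom = e.hom.left ≫ T'.hom := (Over.w e.hom).symm
  have : IsFinite T'.hom := h
  rw [h1]
  exact (MorphismProperty.cancel_left_of_respectsIso @IsFinite e.hom.left T'.hom).2 this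

theorem conn_of_iso {V : 𝒢.obj} {T : Over (Spec (CommRingCat.of k))} (e : 𝒢.p.obj V ≅ T) (h : IsFinite T.hom)
    (h1 : Nonempty T.left) (h2 : Subsingleton T.left) : conn V := by
  refine ⟨isFinite_of_iso e h, ?_, ?_⟩
  · obtain ⟨t⟩ := h1
    exact ⟨e.inv.left t⟩
  · have h3 : Function.Injective e.hom.left := fun x y hxy => by
      have h4 : ∀ x, e.inv.left (e.hom.left x) = x := fun x => by
        rw [← Scheme.Hom.comp_apply, ← Over.comp_left, e.hom_inv_id, Over.id_left]; rfl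
      rw [← h4 x, ← h4 y, hxy]
    exact h3.subsingleton

/-- covering sieves of the geometric point -/
theorem triv {T : Over (Spec (CommRingCat.of k))} (e : T ≅ G k) {R : Sieve T}
    (hR : R ∈ QuotSh.J Scheme.fppfPrecoverage (Spec (CommRingCat.of k)) T) : R (𝟙 T) := by
  have h1 := K895.Fppf.algClosed (AlgebraicClosure k) (gp k) ((QuotSh.J Scheme.fppfPrecoverage _).pullback_stable e.inv hR)
  have h2 : R (𝟙 _ ≫ e.inv) := h1
  rw [Category.id_comp] at h2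
  have h3 := R.downward_closed h2 e.hom
  rwa [e.hom_inv_id] at h3

theorem exists_G {T : Over (Spec (CommRingCat.of k))} (h : LocallyOfFiniteType T.hom) (h1 : Nonempty T.left) :
    Nonempty (G k ⟶ T) := by
  have : LocallyOfFiniteType T.hom := h
  have : Nonempty T.left := h1
  obtain ⟨s, hs⟩ := exists_gp (X := T.left) T.hom
  exact ⟨Over.homMk s hs⟩

include hp

theorem triv' {w₀ : 𝒢.obj} (e₀ : 𝒢.p.obj w₀ ≅ G k) {R : Sieve w₀} (hR : R ∈ StCoh.J Scheme.fppfPrecoverage 𝒢 w₀) :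
    R (𝟙 w₀) := by
  obtain ⟨R₀, h₀, h⟩ := of_mem hp _ hR
  apply h
  rw [CategoryTheory.Functor.map_id]
  exact triv e₀ h₀

include hO in
/-- existence of the geometric point -/
theorem exists_w₀ : ∃ w₀ : 𝒢.obj, Nonempty (𝒢.p.obj w₀ ≅ G k) := by
  obtain ⟨R, hR, h⟩ := K895.Equiv.locSurjObj_toSelf_iff.1 hO (G k)
  obtain ⟨x, hx⟩ := h (𝟙 _) (triv (Iso.refl _) hR)
  exact ⟨x, ⟨eqToIso hx⟩⟩

include hO in
/-- existence of connected objects -/
theorem exists_conn : ∃ V : 𝒢.obj, conn V := by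
  obtain ⟨R, hR, h⟩ := K895.Equiv.locSurjObj_toSelf_iff.1 hO (Over.mk (𝟙 (Spec (CommRingCat.of k))))
  obtain ⟨I, U, g, hg, h1, h2, h3⟩ := K895.Fppf.exists_family_of_mem hR
  obtain ⟨i, y, -⟩ := h3 (default : Spec (CommRingCat.of k))
  obtain ⟨x, hx⟩ := h (g i) (hg i)
  have h4 : LocallyOfFiniteType (U i).hom := by
    have h5 : (g i).left = (U i).hom := by
      have := Over.w (g i)
      simpa using this
    rw [← h5]
    have := h2 i
    infer_instance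
  have : Nonempty (U i).left := ⟨y⟩
  obtain ⟨Z, q, hq, hn, hs, -⟩ := exists_pt (X := (U i).left) (U i).hom
  obtain ⟨V, a, e, ha⟩ := lift_ex hp x (T := Over.mk (q ≫ (U i).hom))
    ((Over.homMk q : Over.mk (q ≫ (U i).hom) ⟶ U i) ≫ eqToHom hx.symm)
  exact ⟨V, conn_of_iso e hq hn hs⟩

variable {w₀ : 𝒢.obj} (e₀ : 𝒢.p.obj w₀ ≅ G k)

include hH e₀ in
/-- the geometric point maps to every object -/
theorem exists_over (z : 𝒢.obj) (t : 𝒢.p.obj w₀ ⟶ 𝒢.p.obj z) : ∃ f : w₀ ⟶ z, 𝒢.p.map f = t := by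
  obtain ⟨R, hR, h⟩ := locHom hp hH w₀ z (𝟙 _) t
  obtain ⟨Y, a, b, e, ha, hb⟩ := h (𝟙 _) (triv e₀ hR)
  rw [Category.comp_id, Category.comp_id] at ha
  rw [Category.id_comp] at hb
  have h1 : IsIso (𝒢.p.map a) := by rw [ha]; infer_instance
  have h2 : IsIso a := isIso_of_map hp a
  refine ⟨inv a ≫ b, ?_⟩
  rw [Functor.map_comp, Functor.map_inv, hb, IsIso.inv_comp_eq, ha]

include hH e₀ in
theorem exists_over' (z : 𝒢.obj) (h : LocallyOfFiniteType (𝒢.p.obj z).hom) (h1 : Nonempty (𝒢.p.obj z).left) :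
    Nonempty (w₀ ⟶ z) := by
  obtain ⟨t⟩ := exists_G h h1
  obtain ⟨f, -⟩ := exists_over hp hH e₀ z (e₀.hom ≫ t)
  exact ⟨f⟩

include e₀ in
theorem iso_base (g : 𝒢.p.obj w₀ ⟶ 𝒢.p.obj w₀) : IsIso g := by
  let g' : G k ⟶ G k := e₀.inv ≫ g ≫ e₀.hom
  have h1 : g = e₀.hom ≫ g' ≫ e₀.inv := by simp [g']
  have h2 : IsIso ((Over.forget _).map g') := isIso_of_comp_gp g'.left (Over.w g')
  have h3 : IsIso g' := isIso_of_reflects_iso g' (Over.forget _)
  rw [h1]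
  infer_instance

include e₀ in
theorem iso (g : w₀ ⟶ w₀) : IsIso g := by
  have := iso_base hp e₀ (𝒢.p.map g)
  exact isIso_of_map hp g

include hH e₀ in
theorem trans {V : 𝒢.obj} (hV : conn V) (s t : w₀ ⟶ V) : ∃ g : w₀ ⟶ w₀, t = g ≫ s := by
  have := hV.2.2
  obtain ⟨σ, hσ, hσ'⟩ := exists_conj (X := (𝒢.p.obj V).left) (𝒢.p.obj V).hom (e₀.inv ≫ 𝒢.p.map s).left
    (e₀.inv ≫ 𝒢.p.map t).left (Over.w (e₀.inv ≫ 𝒢.p.map s)) (Over.w (e₀.inv ≫ 𝒢.p.map t))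
  let σ' : G k ⟶ G k := Over.homMk σ hσ
  have h1 : σ' ≫ e₀.inv ≫ 𝒢.p.map s = e₀.inv ≫ 𝒢.p.map t := Over.OverMorphism.ext hσ'
  obtain ⟨γ, hγ⟩ := exists_over hp hH e₀ w₀ (e₀.hom ≫ σ' ≫ e₀.inv)
  obtain ⟨χ, -, hχ⟩ := exists_factor_map hp (γ ≫ s) t (𝟙 _) (by
    rw [Functor.map_comp, hγ, Category.assoc, Category.assoc, h1, Iso.hom_inv_id_assoc, Category.id_comp])
  exact ⟨χ ≫ γ, by rw [Category.assoc, hχ]⟩

include hH in
omit e₀ in
theorem cov {V : 𝒢.obj} (hV : conn V) (y : 𝒢.obj) : ∃ R ∈ StCoh.J Scheme.fppfPrecoverage 𝒢 y, ∀ ⦃W : 𝒢.obj⦄ (f : W ⟶ y),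
    R f → Nonempty (W ⟶ V) := by
  let B := pullback (𝒢.p.obj y).hom (𝒢.p.obj V).hom
  let q₁ : Over.mk (pullback.fst (𝒢.p.obj y).hom (𝒢.p.obj V).hom ≫ (𝒢.p.obj y).hom) ⟶ 𝒢.p.obj y :=
    Over.homMk (pullback.fst (𝒢.p.obj y).hom (𝒢.p.obj V).hom)
  let q₂ : Over.mk (pullback.fst (𝒢.p.obj y).hom (𝒢.p.obj V).hom ≫ (𝒢.p.obj y).hom) ⟶ 𝒢.p.obj V :=
    Over.homMk (pullback.snd (𝒢.p.obj y).hom (𝒢.p.obj V).hom) pullback.condition.symm
  have hfin : IsFinite (𝒢.p.obj V).hom := hV.1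
  have hfl : Flat (𝒢.p.obj V).hom := by
    infer_instance
  have hsur : Surjective (𝒢.p.obj V).hom := by
    obtain ⟨v⟩ := hV.2.1
    exact ⟨fun x => ⟨v, Subsingleton.elim (α := (Spec (CommRingCat.of k) : Scheme)) _ _⟩⟩
  have hlfp : LocallyOfFinitePresentation (𝒢.p.obj V).hom := inferInstance
  obtain ⟨R', hR', h'⟩ := locHom hp hH y V q₁ q₂
  let R₀ : Sieve (𝒢.p.obj y) :=
    { arrows := fun U g => ∃ (Y : 𝒢.obj) (a : Y ⟶ y) (_ : Y ⟶ V) (c : U ⟶ 𝒢.p.obj Y), c ≫ 𝒢.p.map a = g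
      downward_closed := by
        rintro U U' g ⟨Y, a, b, c, rfl⟩ d
        exact ⟨Y, a, b, d ≫ c, by rw [Category.assoc]⟩ }
  have hR₀ : R₀ ∈ QuotSh.J Scheme.fppfPrecoverage _ (𝒢.p.obj y) := by
    refine (QuotSh.J Scheme.fppfPrecoverage _).transitive (S := Sieve.ofArrows (fun _ : Unit => _) (fun _ => q₁)) ?_ _ ?_
    · have h1 : Flat q₁.left := inferInstanceAs (Flat (pullback.fst _ _))
      have h2 : LocallyOfFinitePresentation q₁.left := inferInstanceAs (LocallyOfFinitePresentation (pullback.fst _ _))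
      have h3 : Surjective q₁.left := inferInstanceAs (Surjective (pullback.fst _ _))
      exact K895.Fppf.mem_of_single q₁ (Sieve.ofArrows_mk _ _ ())
    · rintro U g ⟨_, a, _, ⟨⟩, rfl⟩
      rw [Sieve.pullback_comp]
      refine (QuotSh.J Scheme.fppfPrecoverage _).pullback_stable _
        ((QuotSh.J Scheme.fppfPrecoverage _).superset_covering ?_ hR')
      intro W f hf
      obtain ⟨Y, a, b, e, ha, hb⟩ := h' f hf
      exact ⟨Y, a, b, e.inv, by rw [ha, Iso.inv_hom_id_assoc]⟩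
  refine ⟨R₀.functorPullback 𝒢.p, mem_of hp y _ R₀ hR₀ fun z a ha => ha, fun W f hf => ?_⟩
  obtain ⟨Y, a, b, c, hc⟩ := hf
  obtain ⟨χ, -, hχ⟩ := exists_factor_map hp a f c hc
  exact ⟨χ ≫ b⟩

/-- restriction of an object to a finite one point scheme -/
theorem exists_conn_lift {z : 𝒢.obj} {T : Over (Spec (CommRingCat.of k))} (g : T ⟶ 𝒢.p.obj z) (h : IsFinite T.hom)
    (h1 : Nonempty T.left) (h2 : Subsingleton T.left) :
    ∃ (V : 𝒢.obj) (a : V ⟶ z) (e : 𝒢.p.obj V ≅ T), 𝒢.p.map a = e.hom ≫ g ∧ conn V := by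
  obtain ⟨V, a, e, ha⟩ := lift_ex hp z g
  exact ⟨V, a, e, ha, conn_of_iso e h h1 h2⟩

theorem mem_of_over (V : 𝒢.obj) {T : Over (Spec (CommRingCat.of k))} (g : T ⟶ 𝒢.p.obj V)
    (hg : Sieve.ofArrows (fun _ : Unit => T) (fun _ => g) ∈ QuotSh.J Scheme.fppfPrecoverage _ (𝒢.p.obj V))
    {Z : 𝒢.obj} (a : Z ⟶ V) (e : 𝒢.p.obj Z ≅ T) (ha : 𝒢.p.map a = e.hom ≫ g) :
    Sieve.ofArrows (fun _ : Unit => Z) (fun _ => a) ∈ StCoh.J Scheme.fppfPrecoverage 𝒢 V := by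
  refine mem_of hp V _ _ hg fun z b hb => ?_
  obtain ⟨_, c, _, ⟨⟩, hc⟩ := hb
  obtain ⟨χ, -, hχ⟩ := exists_factor_map hp a b (c ≫ e.inv) (by rw [ha, Category.assoc, Iso.inv_hom_id_assoc, hc])
  rw [← hχ]
  exact (Sieve.ofArrows (fun _ : Unit => Z) (fun _ => a)).downward_closed
    (Sieve.ofArrows_mk (fun _ : Unit => Z) (fun _ => a) ()) χ

/-- refinement of coverings of connected objects -/
theorem ref {V : 𝒢.obj} (hV : conn V) {R : Sieve V} (hR : R ∈ StCoh.J Scheme.fppfPrecoverage 𝒢 V) :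
    ∃ (Z : 𝒢.obj) (f : Z ⟶ V), conn Z ∧ R f ∧
      Sieve.ofArrows (fun _ : Unit => Z) (fun _ => f) ∈ StCoh.J Scheme.fppfPrecoverage 𝒢 V := by
  obtain ⟨R₀, h₀, h⟩ := of_mem hp _ hR
  obtain ⟨I, U, g, hg, h1, h2, h3⟩ := K895.Fppf.exists_family_of_mem h₀
  obtain ⟨v⟩ := hV.2.1
  obtain ⟨i, y, -⟩ := h3 v
  have := h1 i
  have := h2 i
  have : Nonempty (U i).left := ⟨y⟩
  have := hV.1
  have := hV.2.1
  have := hV.2.2
  obtain ⟨Z', q, hq1, hq2, hq3, hq4, hn, hs⟩ := exists_ref (X := (𝒢.p.obj V).left) (𝒢.p.obj V).hom (g i).left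
  let T : Over (Spec (CommRingCat.of k)) := Over.mk (q ≫ (U i).hom)
  let q' : T ⟶ U i := Over.homMk q
  have hT : IsFinite T.hom := by
    have h5 : T.hom = (q ≫ (g i).left) ≫ (𝒢.p.obj V).hom := by
      rw [Category.assoc, Over.w (g i)]
      rfl
    rw [h5]
    have : IsFinite (𝒢.p.obj V).hom := hV.1
    infer_instance
  obtain ⟨Z, a, e, ha, hc⟩ := exists_conn_lift hp (q' ≫ g i) hT hn hs
  refine ⟨Z, a, hc, h a ?_, mem_of_over hp V (q' ≫ g i) ?_ a e ha⟩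
  · rw [ha]
    exact R₀.downward_closed (R₀.downward_closed (hg i) q') e.hom
  · have h6 : Flat (q' ≫ g i).left := hq2
    have h7 : LocallyOfFinitePresentation (q' ≫ g i).left := hq3
    have h8 : Surjective (q' ≫ g i).left := hq4
    exact K895.Fppf.mem_of_single (q' ≫ g i) (Sieve.ofArrows_mk _ _ ())

include hH e₀ in
/-- objects with points are dense -/
theorem dens {V : 𝒢.obj} (hV : good V) {R : Sieve V} (hR : R ∈ StCoh.J Scheme.fppfPrecoverage 𝒢 V) :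
    ∃ R' ∈ StCoh.J Scheme.fppfPrecoverage 𝒢 V, ∀ ⦃Y : 𝒢.obj⦄ (f : Y ⟶ V), R' f →
      ∃ (Z : 𝒢.obj) (g : Y ⟶ Z) (h : Z ⟶ V), g ≫ h = f ∧ R h ∧ Nonempty (w₀ ⟶ Z) := by
  obtain ⟨R₀, h₀, h⟩ := of_mem hp _ hR
  obtain ⟨I, U, g, hg, h1, h2, h3⟩ := K895.Fppf.exists_family_of_mem h₀
  have : IsFinite (𝒢.p.obj V).hom := hV
  let R₁ : Sieve (𝒢.p.obj V) := Sieve.ofArrows (fun i : {i // Nonempty (U i).left} => U i.1) (fun i => g i.1)
  have hR₁ : R₁ ∈ QuotSh.J Scheme.fppfPrecoverage _ (𝒢.p.obj V) :=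
    K895.Fppf.mem_of_family (I := {i // Nonempty (U i).left}) (fun i => U i.1) (fun i => g i.1)
      (fun i => Sieve.ofArrows_mk _ _ i) (fun i => h1 _) (fun i => h2 _) fun t => by
        obtain ⟨i, y, hy⟩ := h3 t
        exact ⟨⟨i, ⟨y⟩⟩, y, hy⟩
  refine ⟨R₁.functorPullback 𝒢.p, mem_of hp V _ R₁ hR₁ fun z a ha => ha, fun Y f hf => ?_⟩
  obtain ⟨_, c, _, ⟨⟨i, hi⟩⟩, hc⟩ := hf
  obtain ⟨Z, a, e, ha⟩ := lift_ex hp V (g i)
  obtain ⟨χ, -, hχ⟩ := exists_factor_map hp a f (c ≫ e.inv) (by rw [ha, Category.assoc, Iso.inv_hom_id_assoc]; exact hc)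
  refine ⟨Z, χ, a, hχ, h a ?_, ?_⟩
  · rw [ha]
    exact R₀.downward_closed (hg i) e.hom
  · have h4 : LocallyOfFinitePresentation (g i).left := h2 i
    have h5 : (U i).hom = (g i).left ≫ (𝒢.p.obj V).hom := (Over.w (g i)).symm
    have h6 : LocallyOfFiniteType (U i).hom := by rw [h5]; infer_instance
    have h7 : (𝒢.p.obj Z).hom = e.hom.left ≫ (U i).hom := (Over.w e.hom).symm
    refine exists_over' hp hH e₀ Z ?_ ?_
    · rw [h7]
      exact (MorphismProperty.cancel_left_of_respectsIso @LocallyOfFiniteType e.hom.left (U i).hom).2 h6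
    · obtain ⟨y⟩ := hi
      exact ⟨e.inv.left y⟩

end K289.GerbPt
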