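import Groth.Agent.Etrest.FppfCoch
import Mathlib.GroupTheory.QuotientGroup.Basic
import Mathlib.Tactic.Group

/-!
# Homogeneous cochains of a group acting on an abelian group, with values in arbitrary universes

`Eqv ρ c`: `c : Γ^{n+1} → A` is equivariant; `Z ρ n` the cocycles; `IsCobd ρ z`: `z = dS b` with `b` equivariant.
`Comp ρ n E`: `E` is the quotient of `Z ρ (n+1)` by the coboundaries.

* `shift`: dimension shifting.
* `isCobd_of_norm`: if `1 = ∑ γ e γ⁻¹` then cocycles of positive degree are coboundaries.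
-/

set_option autoImplicit false

universe w₁ w₂ w₃ w₄

open Groth.Agent.Etrest.FppfCoch

namespace K289.GrpCoch

variable {Γ : Type w₁} [Group Γ] {A : Type w₂} [AddCommGroup A] {B : Type w₃} [AddCommGroup B] {C : Type w₄}
  [AddCommGroup C]

/-- equivariance -/
def Eqv (ρ : Γ →* AddMonoid.End A) {n : ℕ} (c : (Fin (n + 1) → Γ) → A) : Prop :=
  ∀ (g : Γ) (x : Fin (n + 1) → Γ), c (fun i => g * x i) = ρ g (c x)

theorem Eqv.dS {ρ : Γ →* AddMonoid.End A} {n : ℕ} {c : (Fin (n + 1) → Γ) → A} (h : Eqv ρ c) : Eqv ρ (dS c) := by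
  intro g x
  rw [dS_comp (fun y => g * y) c x]
  refine Eq.trans ?_ (map_dS (ρ g : A →+ A) c x).symm
  exact dS_congr fun i => h g _

theorem Eqv.map {ρA : Γ →* AddMonoid.End A} {ρB : Γ →* AddMonoid.End B} (f : A →+ B)
    (hf : ∀ g a, f (ρA g a) = ρB g (f a)) {n : ℕ} {c : (Fin (n + 1) → Γ) → A} (h : Eqv ρA c) :
    Eqv ρB (fun x => f (c x)) := by
  intro g x
  change f (c _) = _
  rw [h g x, hf]

theorem Eqv.sub {ρ : Γ →* AddMonoid.End A} {n : ℕ} {c c' : (Fin (n + 1) → Γ) → A} (h : Eqv ρ c) (h' : Eqv ρ c') :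
    Eqv ρ (fun x => c x - c' x) := by
  intro g x
  change c _ - c' _ = _
  rw [h, h', map_sub]

/-- homogeneous cocycles -/
def Z (ρ : Γ →* AddMonoid.End A) (n : ℕ) : AddSubgroup ((Fin (n + 1) → Γ) → A) where
  carrier := {c | Eqv ρ c ∧ ∀ x, dS c x = 0}
  zero_mem' := ⟨fun g x => (map_zero (ρ g)).symm, fun x => by
    simp [dS]⟩
  add_mem' := fun {a b} ha hb => ⟨fun g x => by
    change a _ + b _ = ρ g (a x + b x)
    rw [ha.1, hb.1, map_add], fun x => by
    have h1 := ha.2 x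
    have h2 := hb.2 x
    have h3 : dS (a + b) x = dS a x + dS b x := by
      simp only [dS, Pi.add_apply, smul_add, Finset.sum_add_distrib]
    rw [h3, h1, h2, add_zero]⟩
  neg_mem' := fun {a} ha => ⟨fun g x => by
    change - a _ = ρ g (- a x)
    rw [ha.1, map_neg], fun x => by
    have h1 := ha.2 x
    have h3 : dS (-a) x = - dS a x := by
      simp only [dS, Pi.neg_apply, smul_neg, Finset.sum_neg_distrib]
    rw [h3, h1, neg_zero]⟩

/-- coboundaries -/
def IsCobd (ρ : Γ →* AddMonoid.End A) {n : ℕ} (z : (Fin (n + 2) → Γ) → A) : Prop :=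
  ∃ b : (Fin (n + 1) → Γ) → A, Eqv ρ b ∧ ∀ x, dS b x = z x

/-- `E` is the group cohomology of `A` in degree `n + 1`. -/
def Comp (ρ : Γ →* AddMonoid.End A) (n : ℕ) (E : Type*) [AddCommGroup E] : Prop :=
  ∃ φ : Z ρ (n + 1) →+ E, Function.Surjective φ ∧ ∀ z, φ z = 0 ↔ IsCobd ρ z.1

theorem Comp.of_equiv {ρ : Γ →* AddMonoid.End A} {n : ℕ} {E E' : Type*} [AddCommGroup E] [AddCommGroup E']
    (e : E ≃+ E') (h : Comp ρ n E) : Comp ρ n E' := by
  obtain ⟨φ, h1, h2⟩ := h
  refine ⟨e.toAddMonoidHom.comp φ, e.surjective.comp h1, fun z => ?_⟩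
  rw [← h2]
  exact e.map_eq_zero_iff

/-- pushing cocycles -/
def Z.map {ρA : Γ →* AddMonoid.End A} {ρB : Γ →* AddMonoid.End B} (f : A →+ B)
    (hf : ∀ g a, f (ρA g a) = ρB g (f a)) (n : ℕ) : Z ρA n →+ Z ρB n where
  toFun c := ⟨fun x => f (c.1 x), c.2.1.map f hf, fun x => by rw [← map_dS f, c.2.2, map_zero]⟩
  map_zero' := Subtype.ext (funext fun x => map_zero f)
  map_add' c c' := Subtype.ext (funext fun x => map_add f _ _)

/-- Equivariant isomorphisms. -/
theorem nonempty_equiv {ρA : Γ →* AddMonoid.End A} {ρB : Γ →* AddMonoid.End B} (f : A ≃+ B)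
    (hf : ∀ g a, f (ρA g a) = ρB g (f a)) {n : ℕ} {E E' : Type*} [AddCommGroup E] [AddCommGroup E']
    (h : Comp ρA n E) (h' : Comp ρB n E') : Nonempty (E ≃+ E') := by
  obtain ⟨φ, h1, h2⟩ := h
  obtain ⟨φ', h1', h2'⟩ := h'
  have hf' : ∀ g b, f.symm (ρB g b) = ρA g (f.symm b) := fun g b => by
    rw [AddEquiv.symm_apply_eq, hf, AddEquiv.apply_symm_apply]
  let m := Z.map (ρA := ρA) (ρB := ρB) f.toAddMonoidHom hf (n + 1)
  let m' := Z.map (ρA := ρB) (ρB := ρA) f.symm.toAddMonoidHom hf' (n + 1)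
  have hmm : ∀ z, m (m' z) = z := fun z => Subtype.ext (funext fun x => f.apply_symm_apply _)
  have hk : ∀ z, IsCobd ρA z.1 ↔ IsCobd ρB (m z).1 := by
    intro z
    constructor
    · rintro ⟨b, hb, hbz⟩
      refine ⟨fun x => f (b x), hb.map f.toAddMonoidHom hf, fun x => ?_⟩
      change _ = f (z.1 x)
      rw [← hbz]
      exact (map_dS f.toAddMonoidHom b x).symm
    · rintro ⟨b, hb, hbz⟩
      refine ⟨fun x => f.symm (b x), hb.map f.symm.toAddMonoidHom hf', fun x => ?_⟩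
      apply f.injective
      have h3 := map_dS f.toAddMonoidHom (fun x => f.symm (b x)) x
      refine h3.trans (Eq.trans ?_ (hbz x))
      exact dS_congr fun i => f.apply_symm_apply _
  refine ⟨(QuotientAddGroup.quotientKerEquivOfSurjective φ h1).symm.trans
    ((QuotientAddGroup.quotientAddEquivOfEq (N := (φ'.comp m).ker) ?_).trans
      (QuotientAddGroup.quotientKerEquivOfSurjective (φ'.comp m) ?_))⟩
  · ext z
    rw [AddMonoidHom.mem_ker, AddMonoidHom.mem_ker, h2, AddMonoidHom.comp_apply, h2', hk]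
  · intro e
    obtain ⟨z, rfl⟩ := h1' e
    exact ⟨m' z, by rw [AddMonoidHom.comp_apply, hmm]⟩

section Shift

variable {ρA : Γ →* AddMonoid.End A} {ρB : Γ →* AddMonoid.End B} {ρC : Γ →* AddMonoid.End C} (i : A →+ B) (π : B →+ C)

/-- equivariant lifting of cochains -/
theorem exists_lift (hπ : ∀ g b, π (ρB g b) = ρC g (π b)) (hs : Function.Surjective π) {n : ℕ}
    (c : (Fin (n + 1) → Γ) → C) (hc : Eqv ρC c) : ∃ b : (Fin (n + 1) → Γ) → B, Eqv ρB b ∧ ∀ x, π (b x) = c x := by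
  choose s hs using hs
  refine ⟨fun x => ρB (x 0) (s (c (fun j => (x 0)⁻¹ * x j))), fun g x => ?_, fun x => ?_⟩
  · change ρB (g * x 0) (s (c (fun j => (g * x 0)⁻¹ * (g * x j)))) = _
    rw [map_mul]
    have : (fun j => (g * x 0)⁻¹ * (g * x j)) = fun j => (x 0)⁻¹ * x j := by
      funext j
      group
    rw [this]
    rfl
  · rw [hπ, hs, ← hc]
    congr 1
    funext j
    group

/-- Dimension shifting. -/
theorem shift (hi : ∀ g a, i (ρA g a) = ρB g (i a)) (hπ : ∀ g b, π (ρB g b) = ρC g (π b))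
    (hinj : Function.Injective i) (hs : Function.Surjective π) (hex : ∀ b, π b = 0 ↔ ∃ a, i a = b) {n : ℕ}
    (hB : ∀ z ∈ Z ρB (n + 1), IsCobd ρB z) {E : Type*} [AddCommGroup E] (φ : Z ρC n →+ E)
    (hφs : Function.Surjective φ) (hφ : ∀ c, φ c = 0 ↔ ∃ b : Z ρB n, Z.map (ρA := ρB) (ρB := ρC) π hπ n b = c) :
    Comp ρA n E := by
  have hb : ∀ z : Z ρA (n + 1), IsCobd ρB (Z.map (ρA := ρA) (ρB := ρB) i hi (n + 1) z).1 := fun z => hB _ (Subtype.property _)
  choose b hbe hbz using hb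
  have hbz' : ∀ z x, dS (b z) x = i (z.1 x) := hbz
  have hπi : ∀ a, π (i a) = 0 := fun a => (hex _).2 ⟨a, rfl⟩
  -- the class of a lift
  let cl (z : Z ρA (n + 1)) (b : (Fin (n + 1) → Γ) → B) (hb : Eqv ρB b) (hz : ∀ x, dS b x = i (z.1 x)) : Z ρC n :=
    ⟨fun x => π (b x), hb.map π hπ, fun x => by rw [← map_dS π, hz, hπi]⟩
  have key : ∀ (z : Z ρA (n + 1)) (b b' : (Fin (n + 1) → Γ) → B) (hb : Eqv ρB b) (hz : ∀ x, dS b x = i (z.1 x))
      (hb' : Eqv ρB b') (hz' : ∀ x, dS b' x = i (z.1 x)), φ (cl z b hb hz) = φ (cl z b' hb' hz') := by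
    intro z b b' hb hz hb' hz'
    rw [← sub_eq_zero, ← map_sub, hφ]
    refine ⟨⟨fun x => b x - b' x, hb.sub hb', fun x => ?_⟩, ?_⟩
    · rw [dS_sub, hz, hz', sub_self]
    · apply Subtype.ext
      funext x
      exact map_sub π _ _
  have hadd : ∀ (c c' : (Fin (n + 1) → Γ) → B) (x : Fin (n + 2) → Γ), dS (fun y => c y + c' y) x = dS c x + dS c' x := by
    intro c c' x
    simp only [dS, smul_add, Finset.sum_add_distrib]
  let ψ : Z ρA (n + 1) →+ E :=
    AddMonoidHom.mk' (fun z => φ (cl z (b z) (hbe z) (hbz' z))) (fun z z' => by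
      have h1 : Eqv ρB (fun x => b z x + b z' x) := fun g x => by
        change b z _ + b z' _ = _
        rw [hbe, hbe, map_add]
      have h2 : ∀ x, dS (fun x => b z x + b z' x) x = i ((z + z').1 x) := fun x => by
        rw [hadd, hbz', hbz', ← map_add]
        rfl
      rw [key (z + z') _ _ (hbe _) (hbz' _) h1 h2, ← map_add]
      congr 1
      apply Subtype.ext
      funext x
      exact map_add π _ _)
  have hψ : ∀ (z : Z ρA (n + 1)) (b' : (Fin (n + 1) → Γ) → B) (hb' : Eqv ρB b') (hz' : ∀ x, dS b' x = i (z.1 x)),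
      ψ z = φ (cl z b' hb' hz') := fun z b' hb' hz' => key z (b z) b' (hbe z) (hbz' z) hb' hz'
  refine ⟨ψ, ?_, fun z => ⟨fun h => ?_, ?_⟩⟩
  · intro e
    obtain ⟨c, rfl⟩ := hφs e
    obtain ⟨b', hb', hbc⟩ := exists_lift π hπ hs c.1 c.2.1
    have h1 : ∀ x, ∃ a, i a = dS b' x := fun x => by
      rw [← hex, map_dS π]
      have : dS (fun y => π (b' y)) x = dS c.1 x := dS_congr fun j => hbc _
      rw [this, c.2.2]
    choose a ha using h1
    have ha' : ∀ x, dS b' x = i (a x) := fun x => (ha x).symm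
    let z : Z ρA (n + 1) := ⟨a, fun g x => by
      apply hinj
      rw [ha, hb'.dS, hi, ha], fun x => by
      apply hinj
      rw [map_dS i, map_zero]
      have : dS (fun y => i (a y)) x = dS (dS b') x := dS_congr fun j => ha _
      rw [this, dS_dS]⟩
    refine ⟨z, ?_⟩
    rw [hψ z b' hb' ha']
    congr 1
    apply Subtype.ext
    funext x
    exact hbc x
  · rw [hψ z (b z) (hbe z) (hbz' z), hφ] at h
    obtain ⟨b', hb'⟩ := h
    have h1 : ∀ x, π (b'.1 x) = π (b z x) := fun x => congrFun (congrArg Subtype.val hb') x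
    have h2 : ∀ x, ∃ a, i a = b z x - b'.1 x := fun x => by
      rw [← hex, map_sub, h1, sub_self]
    choose a ha using h2
    refine ⟨a, fun g x => ?_, fun x => ?_⟩
    · apply hinj
      rw [ha, hi, ha, map_sub, hbe, b'.2.1]
    · apply hinj
      rw [map_dS i, ← hbz']
      have : dS (fun y => i (a y)) x = dS (fun y => b z y - b'.1 y) x := dS_congr fun j => ha _
      rw [this, dS_sub, b'.2.2, sub_zero]
  · rintro ⟨a, ha, haz⟩
    have h1 : Eqv ρB (fun x => i (a x)) := ha.map i hi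
    have h2 : ∀ x, dS (fun x => i (a x)) x = i (z.1 x) := fun x => by rw [← map_dS i, haz]
    rw [hψ z _ h1 h2]
    have : cl z (fun x => i (a x)) h1 h2 = 0 := Subtype.ext (funext fun x => hπi _)
    rw [this, map_zero]

/-- In positive degrees the hypothesis on `φ` of `shift` is implied by its kernel being the coboundaries. -/
theorem cobd_iff (hπ : ∀ g b, π (ρB g b) = ρC g (π b))
    (hs : Function.Surjective π) {n : ℕ}
    (hB : ∀ z ∈ Z ρB (n + 1), IsCobd ρB z) (c : Z ρC (n + 1)) :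
    IsCobd ρC c.1 ↔ ∃ b : Z ρB (n + 1), Z.map (ρA := ρB) (ρB := ρC) π hπ (n + 1) b = c := by
  constructor
  · rintro ⟨c', hc', hcc⟩
    obtain ⟨b', hb', hbc⟩ := exists_lift π hπ hs c' hc'
    refine ⟨⟨dS b', hb'.dS, fun x => dS_dS _ _⟩, Subtype.ext (funext fun x => ?_)⟩
    change π (dS b' x) = c.1 x
    rw [map_dS π, ← hcc]
    exact dS_congr fun j => hbc _
  · rintro ⟨b, rfl⟩
    obtain ⟨b', hb', h⟩ := hB b.1 b.2
    refine ⟨fun x => π (b' x), hb'.map π hπ, fun x => ?_⟩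
    change _ = π (b.1 x)
    rw [← h, map_dS π]

end Shift

/-- Cocycles of positive degree of a relatively projective module are coboundaries. -/
theorem isCobd_of_norm [Fintype Γ] {ρ : Γ →* AddMonoid.End A} (e : A →+ A)
    (he : ∀ a, ∑ g : Γ, ρ g (e (ρ g⁻¹ a)) = a) {n : ℕ} (z : (Fin (n + 2) → Γ) → A) (hz : z ∈ Z ρ (n + 1)) :
    IsCobd ρ z := by
  let E (g : Γ) : A →+ A := (ρ g : A →+ A).comp (e.comp (ρ g⁻¹ : A →+ A))
  have hE : ∀ a, ∑ g : Γ, E g a = a := he
  refine ⟨fun x => ∑ g : Γ, E g (z (Fin.cons g x : Fin (n + 2) → Γ)), fun g x => ?_, fun x => ?_⟩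
  · change ∑ k : Γ, E k (z (Fin.cons k (fun j => g * x j) : Fin (n + 2) → Γ)) = _
    rw [map_sum, ← Equiv.sum_comp (Equiv.mulLeft g)]
    refine Finset.sum_congr rfl fun k _ => ?_
    have h1 : (Fin.cons (g * k) (fun j => g * x j) : Fin (n + 2) → Γ) =
        fun j => g * (Fin.cons k x : Fin (n + 2) → Γ) j := by
      funext j
      refine Fin.cases ?_ (fun j => ?_) j
      · simp only [Fin.cons_zero]
      · simp only [Fin.cons_succ]
    rw [Equiv.coe_mulLeft, h1, hz.1]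
    change ρ (g * k) (e (ρ (g * k)⁻¹ (ρ g _))) = ρ g (ρ k (e (ρ k⁻¹ _)))
    have h2 : ρ (g * k)⁻¹ (ρ g (z (Fin.cons k x : Fin (n + 2) → Γ))) = ρ k⁻¹ (z (Fin.cons k x : Fin (n + 2) → Γ)) := by
      change (ρ (g * k)⁻¹ * ρ g) _ = _
      rw [← map_mul]
      congr 2
      group
    rw [h2, map_mul]
    rfl
  · have h1 : dS (fun x => ∑ g : Γ, E g (z (Fin.cons g x : Fin (n + 2) → Γ))) x =
        ∑ g : Γ, E g (dS (fun y => z (Fin.cons g y : Fin (n + 2) → Γ)) x) := by
      simp only [dS, Finset.smul_sum]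
      rw [Finset.sum_comm]
      refine Finset.sum_congr rfl fun g _ => ?_
      rw [map_sum]
      refine Finset.sum_congr rfl fun j _ => ?_
      rw [map_zsmul]
    rw [h1]
    have h2 : ∀ g : Γ, dS (fun y => z (Fin.cons g y : Fin (n + 2) → Γ)) x = z x := fun g => by
      have h3 := dS_cons z g x
      rw [hz.2] at h3
      exact (sub_eq_zero.1 h3.symm).symm
    simp only [h2]
    exact hE _

end K289.GrpCoch
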