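import Groth.Prelude.Def_StCoh
import Groth.Agent.Stk.K751.Rest
import Groth.Agent.CohtopA.OverInj
import Groth.Agent.BigSite.K299.PullInj
import Groth.Prelude.Def_GmPts2

/-!
# Localisation of the site of a category fibred in groupoids at an object

For `x` over `T` the site `𝒳/x` is the big site of `T`: `loc x F` is the sheaf on the big site of `T` with sections over
`T' → T` the sections of `F` over the restriction of `x` to `T'`.
-/

set_option autoImplicit false
set_option backward.isDefEq.respectTransparency false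
set_option backward.isDefEq.respectTransparency.types false

universe w v u

open CategoryTheory CategoryTheory.Limits AlgebraicGeometry Opposite

noncomputable section

namespace K289.Loc

variable {S : Scheme.{u}} (K : Precoverage Scheme.{u}) {𝒳 : AlgSt.Cat S} (h𝒳 : FibCat.IsFibGrpd 𝒳.p) (x : 𝒳.obj)

include h𝒳 in
/-- The equivalence of the slice over `x` with the slice over the base. -/
def e₁ : Over x ≌ Over (𝒳.p.obj x) :=
  have := K751.Rest.over_post_isEquivalence h𝒳 x
  (Over.post 𝒳.p : Over x ⥤ Over (𝒳.p.obj x)).asEquivalence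

theorem e₁_functor : (e₁ h𝒳 x).functor = Over.post 𝒳.p := rfl

instance isDenseSubsite_e₁ :
    (e₁ h𝒳 x).functor.IsDenseSubsite ((StCoh.J K 𝒳).over x) ((QuotSh.J K S).over (𝒳.p.obj x)) where
  functorPushforward_mem_iff {a S} := (K751.Rest.mem_over_iff h𝒳 x a S).symm

instance isDenseSubsite_e₁_symm :
    (e₁ h𝒳 x).inverse.IsDenseSubsite ((QuotSh.J K S).over (𝒳.p.obj x)) ((StCoh.J K 𝒳).over x) := by
  have : (e₁ h𝒳 x).symm.inverse.IsDenseSubsite ((StCoh.J K 𝒳).over x) ((QuotSh.J K S).over (𝒳.p.obj x)) :=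
    inferInstanceAs ((e₁ h𝒳 x).functor.IsDenseSubsite _ _)
  exact inferInstanceAs ((e₁ h𝒳 x).symm.functor.IsDenseSubsite _ _)

instance isDenseSubsite_slice : (Over.iteratedSliceEquiv (𝒳.p.obj x)).inverse.IsDenseSubsite
    (QuotSh.J K (𝒳.p.obj x).left) ((QuotSh.J K S).over (𝒳.p.obj x)) :=
  inferInstanceAs ((Over.iteratedSliceEquiv (𝒳.p.obj x)).inverse.IsDenseSubsite
    (K.toGrothendieck.over (𝒳.p.obj x).left) ((K.toGrothendieck.over S).over (𝒳.p.obj x)))

/-- Schemes over the base as objects over `x`. -/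
def ux : Over (𝒳.p.obj x).left ⥤ Over x :=
  (Over.iteratedSliceEquiv (𝒳.p.obj x)).inverse ⋙ (e₁ h𝒳 x).inverse

instance : (ux h𝒳 x).IsEquivalence := by unfold ux; infer_instance

instance isDenseSubsite_ux : (ux h𝒳 x).IsDenseSubsite (QuotSh.J K (𝒳.p.obj x).left) ((StCoh.J K 𝒳).over x) where
  functorPushforward_mem_iff {a R} := by
    unfold ux
    rw [Sieve.functorPushforward_comp]
    refine Iff.trans ?_ ((Over.iteratedSliceEquiv (𝒳.p.obj x)).inverse.functorPushforward_mem_iff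
      (QuotSh.J K (𝒳.p.obj x).left) ((QuotSh.J K S).over (𝒳.p.obj x)))
    exact (e₁ h𝒳 x).inverse.functorPushforward_mem_iff
        ((QuotSh.J K S).over (𝒳.p.obj x)) ((StCoh.J K 𝒳).over x)

/-- The restriction of `x` to schemes over its base. -/
def jx : Over (𝒳.p.obj x).left ⥤ 𝒳.obj := ux h𝒳 x ⋙ Over.forget x

instance isContinuous_jx : (jx h𝒳 x).IsContinuous (QuotSh.J K (𝒳.p.obj x).left) (StCoh.J K 𝒳) :=
  Functor.isContinuous_comp _ _ _ ((StCoh.J K 𝒳).over x) _

instance isCocontinuous_jx : (jx h𝒳 x).IsCocontinuous (QuotSh.J K (𝒳.p.obj x).left) (StCoh.J K 𝒳) :=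
  isCocontinuous_comp (K := (StCoh.J K 𝒳).over x) _ _ _

/-- Restriction to the big site of the base. -/
abbrev loc : StCoh.Ab K 𝒳 ⥤ BigSite.Ab K (𝒳.p.obj x).left :=
  (jx h𝒳 x).sheafPushforwardContinuous AddCommGrpCat.{u + 1} (QuotSh.J K (𝒳.p.obj x).left) (StCoh.J K 𝒳)

/-- Restriction along an equivalence. -/
abbrev locU : Sheaf ((StCoh.J K 𝒳).over x) AddCommGrpCat.{u + 1} ⥤ BigSite.Ab K (𝒳.p.obj x).left :=
  (ux h𝒳 x).sheafPushforwardContinuous AddCommGrpCat.{u + 1} (QuotSh.J K (𝒳.p.obj x).left) ((StCoh.J K 𝒳).over x)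

instance : (locU K h𝒳 x).IsEquivalence := by infer_instance

theorem loc_obj_eq (F : StCoh.Ab K 𝒳) : (loc K h𝒳 x).obj F = (locU K h𝒳 x).obj (F.over x) := rfl

/-- `loc` preserves injectives. -/
theorem injective_loc (I : StCoh.Ab K 𝒳) [Injective I] : Injective ((loc K h𝒳 x).obj I) := by
  rw [loc_obj_eq]
  have := K299.PullInj.exactDiscrete.{u}
  have h1 : Injective (I.over x) := Groth.Agent.CohtopA.OverInj.injective_over _ I
  exact ((locU K h𝒳 x).asEquivalence.map_injective_iff _).2 h1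

instance : PreservesFiniteLimits (loc K h𝒳 x) := by
  have h1 : PreservesFiniteLimits (loc K h𝒳 x ⋙ sheafToPresheaf _ AddCommGrpCat.{u + 1}) :=
    inferInstanceAs (PreservesFiniteLimits (sheafToPresheaf (StCoh.J K 𝒳) AddCommGrpCat.{u + 1} ⋙
      (Functor.whiskeringLeft _ _ AddCommGrpCat.{u + 1}).obj (jx h𝒳 x).op))
  exact preservesFiniteLimits_of_reflects_of_preserves (loc K h𝒳 x) (sheafToPresheaf _ AddCommGrpCat.{u + 1})

/-- `loc` preserves epimorphisms. -/
theorem epi_loc {P Q : StCoh.Ab K 𝒳} (α : P ⟶ Q) [Epi α] : Epi ((loc K h𝒳 x).map α) := by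
  rw [← Sheaf.isLocallySurjective_iff_epi']
  have h0 : Sheaf.IsLocallySurjective α := (Sheaf.isLocallySurjective_iff_epi' (φ := α)).2 inferInstance
  constructor
  intro V s
  have h1 : Presheaf.imageSieve α.hom (U := (jx h𝒳 x).obj V) s ∈ StCoh.J K 𝒳 ((jx h𝒳 x).obj V) :=
    Presheaf.imageSieve_mem _ _ _
  exact (jx h𝒳 x).cover_lift (QuotSh.J K (𝒳.p.obj x).left) (StCoh.J K 𝒳) h1

/-- `loc` is exact. -/
theorem shortExact_loc {T : ShortComplex (StCoh.Ab K 𝒳)} (hT : T.ShortExact) : (T.map (loc K h𝒳 x)).ShortExact := by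
  have := hT.mono_f
  have := hT.epi_g
  exact
    { exact := hT.exact.map_of_mono_of_preservesKernel _ inferInstance inferInstance
      mono_f := by change Mono ((loc K h𝒳 x).map T.f); infer_instance
      epi_g := epi_loc K h𝒳 x T.g }

/-- The restriction of `x` to its base is `x`. -/
def jxTop : (jx h𝒳 x).obj (Over.mk (𝟙 _)) ≅ x :=
  (Over.forget x).mapIso ((IsTerminal.isTerminalObj (ux h𝒳 x) _ Over.mkIdTerminal).uniqueUpToIso Over.mkIdTerminal)

/-- The projection of `jx`. -/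
def jxp : jx h𝒳 x ⋙ 𝒳.p ⋙ Over.forget S ≅ Over.forget (𝒳.p.obj x).left :=
  have := K751.Rest.over_post_isEquivalence h𝒳 x
  (Functor.isoWhiskerLeft (Over.iteratedSliceEquiv (𝒳.p.obj x)).inverse
    (Functor.isoWhiskerRight (e₁ h𝒳 x).counitIso (Over.forget (𝒳.p.obj x) ⋙ Over.forget S)) :)

/-- Surjectivity over `x`. -/
theorem surjective_app {P Q : StCoh.Ab K 𝒳} (α : P ⟶ Q)
    (h : Function.Surjective (α.hom.app (op ((jx h𝒳 x).obj (Over.mk (𝟙 _)))))) :
    Function.Surjective (α.hom.app (op x)) := by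
  intro q
  obtain ⟨s, hs⟩ := h (Q.obj.map (jxTop h𝒳 x).hom.op q)
  refine ⟨P.obj.map (jxTop h𝒳 x).inv.op s, ?_⟩
  have h1 := ConcreteCategory.congr_hom (α.hom.naturality (jxTop h𝒳 x).inv.op) s
  rw [ConcreteCategory.comp_apply, ConcreteCategory.comp_apply, hs] at h1
  refine h1.trans ?_
  rw [← ConcreteCategory.comp_apply, ← Q.obj.map_comp, ← op_comp, Iso.inv_hom_id, op_id, Q.obj.map_id]
  rfl

end K289.Loc
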