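import Groth.Agent.StCoh.K289.GerbCoh

/-!
# Čech cocycles on a gerbe which do not see the automorphisms descend to the base
-/

set_option autoImplicit false
set_option backward.isDefEq.respectTransparency false
set_option backward.isDefEq.respectTransparency.types false

universe w v u

open CategoryTheory CategoryTheory.Limits AlgebraicGeometry Opposite K751.FG K289.GerbLoc K289.TorsSite K289.GerbAv

namespace K289.PicCoc

theorem inv_hom_apply {D : Type*} [Category D] (P : Dᵒᵖ ⥤ AddCommGrpCat.{w}) {A B : D} (e : A ≅ B) (s : P.obj (op B)) :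
    P.map e.inv.op (P.map e.hom.op s) = s := by
  rw [← ConcreteCategory.comp_apply, ← P.map_comp, ← op_comp, e.inv_hom_id, op_id, P.map_id]; rfl

variable {S : Scheme.{u}} {𝒢 : AlgSt.Cat S} (hp : FibCat.IsFibGrpd 𝒢.p) {K : Precoverage Scheme.{u}}
  (G : (Over S)ᵒᵖ ⥤ AddCommGrpCat.{u + 1}) {V : 𝒢.obj}
  (c : ∀ {Y : 𝒢.obj} (_ _ : Y ⟶ V), G.obj (op (𝒢.p.obj Y)))
  (hn : ∀ {Y Z : 𝒢.obj} (h : Z ⟶ Y) (x y : Y ⟶ V), G.map (𝒢.p.map h).op (c x y) = c (h ≫ x) (h ≫ y))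
  (hd : ∀ {Y : 𝒢.obj} (x y z : Y ⟶ V), c x y + c y z = c x z)
  (h0 : ∀ {Y : 𝒢.obj} (x y : Y ⟶ V), 𝒢.p.map x = 𝒢.p.map y → c x y = 0)

include hp hn hd h0 in
/-- the cocycle only depends on the base maps -/
theorem indep {Y Y' : 𝒢.obj} (θ : 𝒢.p.obj Y ⟶ 𝒢.p.obj Y') (x y : Y ⟶ V) (x' y' : Y' ⟶ V)
    (hx : 𝒢.p.map x = θ ≫ 𝒢.p.map x') (hy : 𝒢.p.map y = θ ≫ 𝒢.p.map y') : c x y = G.map θ.op (c x' y') := by
  obtain ⟨χ, hχ, hχ'⟩ := exists_factor_map hp x' x θ hx.symm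
  rw [← hχ, hn, hχ', ← hd x (χ ≫ y') y, h0 (χ ≫ y') y (by rw [Functor.map_comp, hχ, hy]), add_zero]

variable (hG : Presheaf.IsSheaf (QuotSh.J K S) G)
  (hH : Gerb.LocSurjHom (QuotSh.J K S) (FibCat.toSelf 𝒢))

include hp hG hH in
/-- uniqueness of the descended section -/
theorem uniq {T : Over S} (t₁ t₂ : T ⟶ 𝒢.p.obj V) (s s' : G.obj (op T))
    (h : ∀ {Y : 𝒢.obj} (e : 𝒢.p.obj Y ⟶ T) (x y : Y ⟶ V), 𝒢.p.map x = e ≫ t₁ → 𝒢.p.map y = e ≫ t₂ →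
      G.map e.op s = G.map e.op s') : s = s' := by
  obtain ⟨R, hR, hRl⟩ := locHom hp hH V V t₁ t₂
  refine eq_of_cover hG hR fun T' f hf => ?_
  obtain ⟨Y, a, b, ε, ha, hb⟩ := hRl f hf
  have h1 := h (ε.hom ≫ f) a b (by rw [ha, Category.assoc]) (by rw [hb, Category.assoc])
  rw [← map_map_apply, ← map_map_apply] at h1
  rw [← inv_hom_apply G ε (G.map f.op s), h1, inv_hom_apply]

include hp hn hd h0 hG hH in
/-- existence of the descended section -/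
theorem exists_sect {T : Over S} (t₁ t₂ : T ⟶ 𝒢.p.obj V) : ∃ s : G.obj (op T),
    ∀ {Y : 𝒢.obj} (e : 𝒢.p.obj Y ⟶ T) (x y : Y ⟶ V), 𝒢.p.map x = e ≫ t₁ → 𝒢.p.map y = e ≫ t₂ →
      G.map e.op s = c x y := by
  obtain ⟨R, hR, hRl⟩ := locHom hp hH V V t₁ t₂
  choose Y a b ε ha hb using hRl
  let fam : Presieve.FamilyOfElements (G ⋙ forget AddCommGrpCat.{u + 1}) R.arrows :=
    fun T' f hf => G.map (ε f hf).inv.op (c (a f hf) (b f hf))
  have hcomp : fam.Compatible := by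
    intro T₁ T₂ Z g₁ g₂ f₁ f₂ h₁ h₂ h
    change G.map g₁.op (G.map _ _) = G.map g₂.op (G.map _ _)
    obtain ⟨z, m, ζ, hm⟩ := lift_ex hp (Y f₁ h₁) (g₁ ≫ (ε f₁ h₁).inv)
    rw [map_map_apply, map_map_apply, ← inv_hom_apply G ζ (G.map (g₁ ≫ (ε f₁ h₁).inv).op _),
      ← inv_hom_apply G ζ (G.map (g₂ ≫ (ε f₂ h₂).inv).op _), map_map_apply G ζ.hom, ← hm, hn, map_map_apply G ζ.hom]
    congr 1
    refine indep hp G c hn hd h0 _ _ _ _ _ ?_ ?_
    · rw [Functor.map_comp, hm, ha, ha, Category.assoc, Category.assoc, Iso.inv_hom_id_assoc, Category.assoc,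
        Category.assoc, Iso.inv_hom_id_assoc, ← Category.assoc g₁, h, Category.assoc]
    · rw [Functor.map_comp, hm, hb, hb, Category.assoc, Category.assoc, Iso.inv_hom_id_assoc, Category.assoc,
        Category.assoc, Iso.inv_hom_id_assoc, ← Category.assoc g₁, h, Category.assoc]
  obtain ⟨s, hs, -⟩ := (isSheaf_ty hG) R hR fam hcomp
  refine ⟨s, fun {W} e x y hx hy => ?_⟩
  refine eq_of_cover hG ((QuotSh.J K S).pullback_stable e hR) fun T' g hg => ?_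
  have h1 : G.map (g ≫ e).op s = G.map (ε (g ≫ e) hg).inv.op (c (a (g ≫ e) hg) (b (g ≫ e) hg)) := hs (g ≫ e) hg
  rw [map_map_apply, h1, indep hp G c hn hd h0 ((ε (g ≫ e) hg).hom ≫ g) (a (g ≫ e) hg) (b (g ≫ e) hg) x y
    (by rw [ha, hx]; simp only [Category.assoc]) (by rw [hb, hy]; simp only [Category.assoc]), map_map_apply,
    Iso.inv_hom_id_assoc]

include hp hn hd h0 hG hH in
/-- the descended cocycle -/
theorem exists_coc : ∃ d : ∀ {T : Over S} (_ _ : T ⟶ 𝒢.p.obj V), G.obj (op T),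
    (∀ {T T' : Over S} (g : T' ⟶ T) (t₁ t₂ : T ⟶ 𝒢.p.obj V), G.map g.op (d t₁ t₂) = d (g ≫ t₁) (g ≫ t₂)) ∧
    (∀ {T : Over S} (t₁ t₂ t₃ : T ⟶ 𝒢.p.obj V), d t₁ t₂ + d t₂ t₃ = d t₁ t₃) ∧
    ∀ {Y : 𝒢.obj} (x y : Y ⟶ V), d (𝒢.p.map x) (𝒢.p.map y) = c x y := by
  choose d hd' using fun {T : Over S} (t₁ t₂ : T ⟶ 𝒢.p.obj V) => exists_sect hp G c hn hd h0 hG hH t₁ t₂
  refine ⟨d, fun {T T'} g t₁ t₂ => ?_, fun {T} t₁ t₂ t₃ => ?_, fun {Y} x y => ?_⟩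
  · refine uniq hp G hG hH (g ≫ t₁) (g ≫ t₂) _ _ fun {Y} e x y hx hy => ?_
    rw [hd' (g ≫ t₁) (g ≫ t₂) e x y hx hy, map_map_apply, hd' t₁ t₂ (e ≫ g) x y (by rw [hx, Category.assoc])
      (by rw [hy, Category.assoc])]
  · obtain ⟨R, hR, hRl⟩ := locHom hp hH V V t₁ t₂
    refine eq_of_cover hG hR fun T' f hf => ?_
    obtain ⟨Y, a, b, ε, ha, hb⟩ := hRl f hf
    rw [← inv_hom_apply G ε (G.map f.op (d t₁ t₂ + d t₂ t₃)), ← inv_hom_apply G ε (G.map f.op (d t₁ t₃))]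
    congr 1
    obtain ⟨R', hR', hRl'⟩ := locHom hp hH V V (ε.hom ≫ f ≫ t₂) (ε.hom ≫ f ≫ t₃)
    refine eq_of_cover hG hR' fun T'' f' hf' => ?_
    obtain ⟨Y', a', b', ε', ha', hb'⟩ := hRl' f' hf'
    rw [← inv_hom_apply G ε' (G.map f'.op (G.map ε.hom.op (G.map f.op (d t₁ t₂ + d t₂ t₃)))),
      ← inv_hom_apply G ε' (G.map f'.op (G.map ε.hom.op (G.map f.op (d t₁ t₃))))]
    congr 1
    rw [map_map_apply, map_map_apply, map_map_apply, map_map_apply, map_map_apply, map_map_apply, map_add]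
    obtain ⟨χ, hχ, hχ'⟩ := exists_factor_map hp b a' (ε'.hom ≫ f') (by rw [ha', hb]; simp only [Category.assoc])
    rw [hd' t₁ t₂ _ (χ ≫ a) a' (by rw [Functor.map_comp, hχ, ha]; simp only [Category.assoc])
        (by rw [ha']; simp only [Category.assoc]),
      hd' t₂ t₃ _ a' b' (by rw [ha']; simp only [Category.assoc]) (by rw [hb']; simp only [Category.assoc]),
      hd' t₁ t₃ _ (χ ≫ a) b' (by rw [Functor.map_comp, hχ, ha]; simp only [Category.assoc])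
        (by rw [hb']; simp only [Category.assoc]), hd]
  · have h1 := hd' (𝒢.p.map x) (𝒢.p.map y) (𝟙 _) x y (Category.id_comp _).symm (Category.id_comp _).symm
    rw [← h1, op_id, G.map_id]
    rfl

end K289.PicCoc
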