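import Groth.Agent.StCoh.K289.PicLift
import Groth.Agent.StCoh.K289.AutObj
import Groth.Agent.AlgSp.K638.RedEt

/-!
# Finiteness of `H¹(𝒢, G_m)` for a Deligne-Mumford gerbe over a field
-/

set_option autoImplicit false
set_option backward.isDefEq.respectTransparency false
set_option backward.isDefEq.respectTransparency.types false
set_option linter.unusedSectionVars false

universe w v u

open CategoryTheory CategoryTheory.Limits CategoryTheory.Abelian AlgebraicGeometry Opposite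
open K751.FG K289.GerbLoc K289.TorsSite K289.GerbAv K289.FieldSch K289.GerbPt
open K289.PicCoc K289.PicAlg

namespace K289.PicFin

variable {k : Type u} [Field k] {𝒢 : AlgSt.Cat (Spec (CommRingCat.of k))} (hp : FibCat.IsFibGrpd 𝒢.p)
  (hO : Gerb.LocSurjObj (QuotSh.J Scheme.fppfPrecoverage (Spec (CommRingCat.of k))) (FibCat.toSelf 𝒢))
  (hH : Gerb.LocSurjHom (QuotSh.J Scheme.fppfPrecoverage (Spec (CommRingCat.of k))) (FibCat.toSelf 𝒢))

include hp in
/-- objects over fields -/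
theorem exists_fieldObj {z : 𝒢.obj} (hz : conn z) : ∃ (E : Type u) (_ : Field E) (_ : Algebra k E) (V : 𝒢.obj) (_ : V ⟶ z),
    Nonempty (𝒢.p.obj V ≅ sA (k := k) E) ∧ conn V := by
  have := hz.1
  obtain ⟨x⟩ := hz.2.1
  have := hz.2.2
  let X := (𝒢.p.obj z).left
  have hx : IsClosed ({x} : Set X) := by
    rw [Set.eq_univ_of_forall (s := ({x} : Set X)) fun y => Subsingleton.elim _ _]
    exact isClosed_univ
  rw [isClosed_singleton_iff_isClosedImmersion] at hx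
  let T : Over (Spec (CommRingCat.of k)) := Over.mk (X.fromSpecResidueField x ≫ (𝒢.p.obj z).hom)
  have hT : IsFinite T.hom := inferInstanceAs (IsFinite (X.fromSpecResidueField x ≫ (𝒢.p.obj z).hom))
  obtain ⟨V, a, e, ha, hV⟩ := exists_conn_lift hp (Over.homMk (X.fromSpecResidueField x) : T ⟶ 𝒢.p.obj z) hT
    (inferInstanceAs (Nonempty (Spec (X.residueField x)))) (inferInstanceAs (Subsingleton (Spec (X.residueField x))))
  obtain ⟨φ, hφ⟩ := Spec.map_surjective (X.fromSpecResidueField x ≫ (𝒢.p.obj z).hom)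
  refine ⟨X.residueField x, inferInstance, φ.hom.toAlgebra, V, a, ⟨e ≪≫ Over.isoMk (Iso.refl _) ?_⟩, hV⟩
  change 𝟙 _ ≫ Spec.map φ = X.fromSpecResidueField x ≫ (𝒢.p.obj z).hom
  rw [Category.id_comp, hφ]

variable {w₀ : 𝒢.obj} (e₀ : 𝒢.p.obj w₀ ≅ G k)

section Gm

variable [StCoh.BaseCont Scheme.fppfPrecoverage 𝒢]

/-- sections of `G_m` as units -/
noncomputable def toU {P : 𝒢.obj} (c : (StCoh.Gm Scheme.fppfPrecoverage 𝒢).obj.obj (op P)) : (Γ((𝒢.p.obj P).left, ⊤))ˣ :=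
  GmPts.unitOfSect (T := op (𝒢.p.obj P))
    ((GmPts.gmShIso Scheme.fppfPrecoverage (Spec (CommRingCat.of k))).hom.hom.app (op (𝒢.p.obj P)) c)

theorem toU_zero {P : 𝒢.obj} : toU (0 : (StCoh.Gm Scheme.fppfPrecoverage 𝒢).obj.obj (op P)) = 1 := by
  have h := map_zero ((GmPts.gmShIso Scheme.fppfPrecoverage (Spec (CommRingCat.of k))).hom.hom.app (op (𝒢.p.obj P))).hom
  exact congrArg GmPts.unitOfSect h

theorem toU_add {P : 𝒢.obj} (c d : (StCoh.Gm Scheme.fppfPrecoverage 𝒢).obj.obj (op P)) : toU (c + d) = toU c * toU d := by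
  have h := map_add ((GmPts.gmShIso Scheme.fppfPrecoverage (Spec (CommRingCat.of k))).hom.hom.app (op (𝒢.p.obj P))).hom c d
  exact congrArg GmPts.unitOfSect h

theorem toU_injective {P : 𝒢.obj} {c d : (StCoh.Gm Scheme.fppfPrecoverage 𝒢).obj.obj (op P)} (h : toU c = toU d) :
    c = d := by
  let ψ := GmPts.gmShIso Scheme.fppfPrecoverage (Spec (CommRingCat.of k))
  have hψ : ψ.hom.hom ≫ ψ.inv.hom = 𝟙 _ := congrArg (fun t => t.hom) ψ.hom_inv_id
  have hψ' : ∀ t : (CGrpSh2.Gm Scheme.fppfPrecoverage (Spec (CommRingCat.of k))).obj.obj (op (𝒢.p.obj P)),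
      ψ.inv.hom.app (op (𝒢.p.obj P)) (ψ.hom.hom.app (op (𝒢.p.obj P)) t) = t := fun t => by
    rw [← ConcreteCategory.comp_apply, ← NatTrans.comp_app, hψ]; rfl
  have h1 : ψ.hom.hom.app (op (𝒢.p.obj P)) c = ψ.hom.hom.app (op (𝒢.p.obj P)) d := by
    rw [← GmPts.sectOfUnit_unitOfSect (ψ.hom.hom.app (op (𝒢.p.obj P)) c),
      ← GmPts.sectOfUnit_unitOfSect (ψ.hom.hom.app (op (𝒢.p.obj P)) d)]
    exact congrArg GmPts.sectOfUnit h
  exact (hψ' c).symm.trans ((congrArg _ h1).trans (hψ' d))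

theorem toU_map {P Y : 𝒢.obj} (r : Y ⟶ P) (c : (StCoh.Gm Scheme.fppfPrecoverage 𝒢).obj.obj (op P)) :
    toU ((StCoh.Gm Scheme.fppfPrecoverage 𝒢).obj.map r.op c) =
      Units.map (𝒢.p.map r).left.appTop.hom.toMonoidHom (toU c) := by
  have h := nat_apply (GmPts.gmShIso Scheme.fppfPrecoverage (Spec (CommRingCat.of k))).hom.hom (𝒢.p.map r) c
  exact (congrArg GmPts.unitOfSect h).trans (GmPts.unitOfSect_map _ _)

include hp hH e₀ in
/-- Sections of `G_m` over reduced objects are determined by their values at the points. -/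
theorem gm_eq_zero {P : 𝒢.obj} (hr : IsReduced (𝒢.p.obj P).left) (hf : LocallyOfFiniteType (𝒢.p.obj P).hom)
    (c : (StCoh.Gm Scheme.fppfPrecoverage 𝒢).obj.obj (op P))
    (h : ∀ r : w₀ ⟶ P, (StCoh.Gm Scheme.fppfPrecoverage 𝒢).obj.map r.op c = 0) : c = 0 := by
  refine toU_injective ?_
  rw [toU_zero]
  have h0 : ((toU c : (Γ((𝒢.p.obj P).left, ⊤))ˣ) : Γ((𝒢.p.obj P).left, ⊤)) - 1 = 0 := by
    by_contra hne
    have hb : (𝒢.p.obj P).left.basicOpen (((toU c : (Γ((𝒢.p.obj P).left, ⊤))ˣ) : Γ((𝒢.p.obj P).left, ⊤)) - 1) ≠ ⊥ := fun h1 =>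
      hne ((basicOpen_eq_bot_iff _).1 h1)
    set O := (𝒢.p.obj P).left.basicOpen (((toU c : (Γ((𝒢.p.obj P).left, ⊤))ˣ) : Γ((𝒢.p.obj P).left, ⊤)) - 1) with hOdef
    have hOn : Nonempty O := by
      obtain ⟨x, hx⟩ := (TopologicalSpace.Opens.ne_bot_iff_nonempty O).1 hb
      exact ⟨⟨x, hx⟩⟩
    obtain ⟨s, hs⟩ := exists_gp (X := (O : Scheme)) (O.ι ≫ (𝒢.p.obj P).hom)
    obtain ⟨r, hr'⟩ := exists_over hp hH e₀ P (e₀.hom ≫ (Over.homMk (s ≫ O.ι) (by rw [Category.assoc]; exact hs) : G k ⟶ 𝒢.p.obj P))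
    have h1 := h r
    have h2 := (toU_map r c).symm.trans ((congrArg toU h1).trans toU_zero)
    have h3 : (𝒢.p.map r).left.appTop (((toU c : (Γ((𝒢.p.obj P).left, ⊤))ˣ) : Γ((𝒢.p.obj P).left, ⊤)) - 1) = 0 := by
      have h4 := congrArg Units.val h2
      rw [map_sub, map_one, sub_eq_zero]
      exact h4
    have h5 := Scheme.preimage_basicOpen_top (𝒢.p.map r).left (((toU c : (Γ((𝒢.p.obj P).left, ⊤))ˣ) : Γ((𝒢.p.obj P).left, ⊤)) - 1)
    rw [h3, Scheme.basicOpen_zero, hr'] at h5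
    let y : (𝒢.p.obj w₀).left := e₀.inv.left (Classical.arbitrary (Spec (CommRingCat.of (AlgebraicClosure k))))
    have h6 : y ∈ (e₀.hom ≫ (Over.homMk (s ≫ O.ι) (by rw [Category.assoc]; exact hs) : G k ⟶ 𝒢.p.obj P)).left ⁻¹ᵁ O :=
      (s (e₀.hom.left y)).2
    rw [h5] at h6
    exact h6
  exact Units.ext (sub_eq_zero.1 h0)

/-! ### the kernel -/

variable {I Q : StCoh.Ab Scheme.fppfPrecoverage 𝒢} (α : StCoh.Gm Scheme.fppfPrecoverage 𝒢 ⟶ I) (π : I ⟶ Q) (w : α ≫ π = 0)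
  (hS : (ShortComplex.mk α π w).ShortExact)

include hS in
/-- vertical automorphisms move all liftings in the same way -/
theorem inv_of_inv {q : ZJ (StCoh.J Scheme.fppfPrecoverage 𝒢) ⟶ Q} {j j' : I.obj.obj (op w₀)}
    (hj : π.hom.app (op w₀) j = one q w₀) (hj' : π.hom.app (op w₀) j' = one q w₀) {g : w₀ ⟶ w₀} (hg : 𝒢.p.map g = 𝟙 _)
    (h : I.obj.map g.op j = j) : I.obj.map g.op j' = j' := by
  obtain ⟨f, hf⟩ := ((exact_app hS w₀).2 (j' - j)).1 (by
    change π.hom.app (op w₀) _ = 0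
    rw [map_sub, hj, hj', sub_self])
  have hf' : α.hom.app (op w₀) f = j' - j := hf
  have h1 : (StCoh.Gm Scheme.fppfPrecoverage 𝒢).obj.map g.op f = f := by
    refine toU_injective ?_
    rw [toU_map, hg]
    ext1
    exact congrArg (fun (t : Γ((𝒢.p.obj w₀).left, ⊤) →+* Γ((𝒢.p.obj w₀).left, ⊤)) => t (toU f))
      (congrArg CommRingCat.Hom.hom (Scheme.Hom.id_appTop (X := (𝒢.p.obj w₀).left)))
  have h2 := nat_apply α.hom g f
  rw [h1, hf', map_sub, h] at h2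
  exact (sub_left_injective h2).symm

include hp hO hH e₀ hS in
/-- Classes on which the vertical automorphisms act trivially are trivial. -/
theorem lift_of_inv (hDM : AlgSt.IsDM Scheme.fppfPrecoverage 𝒢) (hqs : AlgSt.IsQuasiSeparatedOver 𝒢)
    (q : ZJ (StCoh.J Scheme.fppfPrecoverage 𝒢) ⟶ Q) (j : I.obj.obj (op w₀)) (hj : π.hom.app (op w₀) j = one q w₀)
    (hinv : ∀ g : w₀ ⟶ w₀, 𝒢.p.map g = 𝟙 _ → I.obj.map g.op j = j) :
    ∃ g : ZJ (StCoh.J Scheme.fppfPrecoverage 𝒢) ⟶ I, g ≫ π = q := by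
  obtain ⟨V₀, hV₀⟩ := exists_conn hp hO
  obtain ⟨Z, f, hZ, ⟨s₀, hs₀⟩, -⟩ := ref hp hV₀ (lift_mem hS (one q V₀))
  obtain ⟨E, _, _, V, b, ⟨e⟩, hV⟩ := exists_fieldObj hp hZ
  obtain ⟨s, hs⟩ : ∃ s : I.obj.obj (op V), π.hom.app (op V) s = one q V := by
    have hs₀' : π.hom.app (op Z) s₀ = one q Z := (show π.hom.app (op Z) s₀ = Q.obj.map f.op (one q V₀) from hs₀).trans
      (one_map q f)
    exact ⟨I.obj.map b.op s₀, by rw [nat_apply, hs₀', one_map]⟩
  refine PicLift.lift_of hp hH α π w hS e (fun y => cov hp hH hV y) q s hs fun {Y} x y hxy => ?_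
  obtain ⟨P, a₁, a₂, ha, hfin, het, hu⟩ := AutObj.aut_obj hDM hqs e
  obtain ⟨h, h1, h2⟩ := hu x y hxy
  rw [← h1, ← h2, ← map_map_apply, ← map_map_apply]
  congr 1
  obtain ⟨c, hc⟩ := ((exact_app hS P).2 (I.obj.map a₂.op s - I.obj.map a₁.op s)).1 (by
    change π.hom.app (op P) _ = 0
    rw [map_sub, nat_apply, nat_apply, hs, one_map, one_map, sub_self])
  have hc' : α.hom.app (op P) c = I.obj.map a₂.op s - I.obj.map a₁.op s := hc
  have hc0 : c = 0 := by
    have hV1 : IsFinite (𝒢.p.obj V).hom := hV.1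
    have hPV : (𝒢.p.map a₁).left ≫ (𝒢.p.obj V).hom = (𝒢.p.obj P).hom := Over.w (𝒢.p.map a₁)
    refine gm_eq_zero hp hH e₀ ?_ ?_ c fun r => ?_
    · have h3 : IsReduced (sA (k := k) E).left := inferInstanceAs (IsReduced (Spec (CommRingCat.of E)))
      have h4 : IsReduced (𝒢.p.obj V).left := isReduced_of_isOpenImmersion e.hom.left
      exact K638.RedEt.isReduced_of_etale (𝒢.p.map a₁).left
    · rw [← hPV]
      infer_instance
    · refine (exact_app hS w₀).1 ?_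
      change α.hom.app (op w₀) _ = α.hom.app (op w₀) 0
      rw [nat_apply, hc', map_sub, map_map_apply, map_map_apply]
      obtain ⟨g, hg, hg'⟩ := exists_factor_map hp (r ≫ a₁) (r ≫ a₂) (𝟙 _) (by
        rw [Category.id_comp, Functor.map_comp, Functor.map_comp, ha])
      have h5 : π.hom.app (op w₀) (I.obj.map (r ≫ a₁).op s) = one q w₀ := by
        rw [nat_apply, hs, one_map]
      have h6 := inv_of_inv α π w hS hj h5 hg (hinv g hg)
      rw [← hg', ← map_map_apply, h6, sub_self]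
      exact (map_zero (α.hom.app (op w₀)).hom).symm
  rw [hc0] at hc'
  have h7 : (0 : I.obj.obj (op P)) = I.obj.map a₂.op s - I.obj.map a₁.op s :=
    (map_zero (α.hom.app (op P)).hom).symm.trans hc'
  exact (sub_eq_zero.1 h7.symm).symm

end Gm

end K289.PicFin
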