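import Groth.Agent.StCoh.K289.PicCoc
import Groth.Agent.StCoh.K289.PicAlg

/-!
# Classes of `H¹(𝒢, G_m)` which do not see the automorphisms are trivial
-/

set_option autoImplicit false
set_option backward.isDefEq.respectTransparency false
set_option backward.isDefEq.respectTransparency.types false

universe w v u

open CategoryTheory CategoryTheory.Limits AlgebraicGeometry Opposite K751.FG K289.GerbLoc K289.TorsSite K289.GerbAv
open K289.PicCoc K289.PicAlg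

namespace K289.PicLift

variable {k : Type u} [Field k] {𝒢 : AlgSt.Cat (Spec (CommRingCat.of k))} (hp : FibCat.IsFibGrpd 𝒢.p)
  (hH : Gerb.LocSurjHom (QuotSh.J Scheme.fppfPrecoverage (Spec (CommRingCat.of k))) (FibCat.toSelf 𝒢))
  [StCoh.BaseCont Scheme.fppfPrecoverage 𝒢]
  {I Q : StCoh.Ab Scheme.fppfPrecoverage 𝒢} (α : StCoh.Gm Scheme.fppfPrecoverage 𝒢 ⟶ I) (π : I ⟶ Q) (w : α ≫ π = 0)
  (hS : (ShortComplex.mk α π w).ShortExact)
  {E : Type u} [Field E] [Algebra k E] {V : 𝒢.obj} (e : 𝒢.p.obj V ≅ sA E)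

include hp hH hS e in
theorem lift_of (hcov : ∀ y : 𝒢.obj, ∃ R ∈ StCoh.J Scheme.fppfPrecoverage 𝒢 y, ∀ ⦃W : 𝒢.obj⦄ (f : W ⟶ y), R f →
      Nonempty (W ⟶ V)) (q : ZJ (StCoh.J Scheme.fppfPrecoverage 𝒢) ⟶ Q) (s : I.obj.obj (op V))
    (hs : π.hom.app (op V) s = one q V)
    (hZ : ∀ {Y : 𝒢.obj} (x y : Y ⟶ V), 𝒢.p.map x = 𝒢.p.map y → I.obj.map x.op s = I.obj.map y.op s) :
    ∃ g : ZJ (StCoh.J Scheme.fppfPrecoverage 𝒢) ⟶ I, g ≫ π = q := by
  let G₀ : (Over (Spec (CommRingCat.of k)))ᵒᵖ ⥤ AddCommGrpCat.{u + 1} :=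
    (CGrpSh2.Gm Scheme.fppfPrecoverage (Spec (CommRingCat.of k))).obj
  have hG₀ : Presheaf.IsSheaf (QuotSh.J Scheme.fppfPrecoverage (Spec (CommRingCat.of k))) G₀ :=
    (CGrpSh2.Gm Scheme.fppfPrecoverage (Spec (CommRingCat.of k))).property
  have hex : ∀ (Y : 𝒢.obj) (x y : Y ⟶ V), ∃ t : (StCoh.Gm Scheme.fppfPrecoverage 𝒢).obj.obj (op Y),
      α.hom.app (op Y) t = I.obj.map y.op s - I.obj.map x.op s := fun Y x y =>
    ((exact_app hS Y).2 _).1 (by
      change π.hom.app (op Y) _ = 0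
      rw [map_sub, nat_apply, nat_apply, hs, one_map, one_map, sub_self])
  have hinj : ∀ (Y : 𝒢.obj) {t t' : (StCoh.Gm Scheme.fppfPrecoverage 𝒢).obj.obj (op Y)},
      α.hom.app (op Y) t = α.hom.app (op Y) t' → t = t' := fun Y t t' h => (exact_app hS Y).1 h
  choose c hc using hex
  obtain ⟨d, hd1, hd2, hd3⟩ := exists_coc hp G₀ (V := V) (fun {Y} x y => c Y x y)
    (fun {Y Z} h x y => by
      refine hinj Z ?_
      have h1 := (nat_apply α.hom h (c Y x y)).trans (congrArg (I.obj.map h.op) (hc Y x y))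
      refine Eq.trans h1 ?_
      rw [hc, map_sub, map_map_apply, map_map_apply])
    (fun {Y} x y z => by
      refine hinj Y ?_
      refine (map_add (α.hom.app (op Y)).hom _ _).trans ?_
      change α.hom.app (op Y) (c Y x y) + α.hom.app (op Y) (c Y y z) = α.hom.app (op Y) (c Y x z)
      rw [hc, hc, hc]
      abel)
    (fun {Y} x y h => by
      refine hinj Y ?_
      rw [hc, hZ x y h, sub_self]
      exact (map_zero (α.hom.app (op Y)).hom).symm) hG₀ hH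
  let ψ := GmPts.gmShIso Scheme.fppfPrecoverage (Spec (CommRingCat.of k))
  let ψ₁ : G₀ ⟶ GmPts.unitsPre (Spec (CommRingCat.of k)) := ψ.hom.hom
  let ψ₂ : GmPts.unitsPre (Spec (CommRingCat.of k)) ⟶ G₀ := ψ.inv.hom
  have hψ : ψ₁ ≫ ψ₂ = 𝟙 _ := congrArg (fun t => t.hom) ψ.hom_inv_id
  have hψ' : ∀ {T : Over (Spec (CommRingCat.of k))} (t : G₀.obj (op T)), ψ₂.app (op T) (ψ₁.app (op T) t) = t := fun {T} t => by
    rw [← ConcreteCategory.comp_apply, ← NatTrans.comp_app, hψ]; rfl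
  obtain ⟨v, hv⟩ := cob e (fun {T} t₁ t₂ => ψ₁.app (op T) (d t₁ t₂))
    (fun {T T'} g t₁ t₂ => by rw [← nat_apply, hd1])
    (fun {T} t₁ t₂ t₃ => by rw [← map_add, hd2])
  let v' : (StCoh.Gm Scheme.fppfPrecoverage 𝒢).obj.obj (op V) := ψ₂.app (op (𝒢.p.obj V)) v
  have hv' : ∀ {Y : 𝒢.obj} (x y : Y ⟶ V), c Y x y = (StCoh.Gm Scheme.fppfPrecoverage 𝒢).obj.map y.op v' -
      (StCoh.Gm Scheme.fppfPrecoverage 𝒢).obj.map x.op v' := fun {Y} x y => by
    have h1 := congrArg (ψ₂.app (op (𝒢.p.obj Y))) (hv (𝒢.p.map x) (𝒢.p.map y))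
    rw [hψ', hd3, map_sub, nat_apply, nat_apply] at h1
    exact h1
  obtain ⟨g, hg⟩ := glueOne hcov (s - α.hom.app (op V) v') (fun {W} x y => by
    rw [map_sub, map_sub, ← nat_apply, ← nat_apply]
    have h1 := hc W x y
    rw [hv', map_sub] at h1
    rw [sub_eq_sub_iff_add_eq_add]
    rw [sub_eq_sub_iff_add_eq_add] at h1
    rw [add_comm, h1])
  refine ⟨g, one_ext hcov ?_⟩
  rw [one_comp, hg, map_sub, hs]
  have h1 : π.hom.app (op V) (α.hom.app (op V) v') = 0 := ((exact_app hS V).2 _).2 ⟨v', rfl⟩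
  rw [h1, sub_zero]

end K289.PicLift
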