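import Groth.Agent.StCoh.K289.GrpCoch
import Mathlib.CategoryTheory.Sites.SheafCohomology.Basic
import Mathlib.CategoryTheory.Sites.EpiMono
import Mathlib.CategoryTheory.Abelian.Injective.Basic
import Mathlib.Algebra.Homology.DerivedCategory.Ext.EnoughInjectives

/-!
# Cohomology of a site with a torsor `x₀ → *` under a finite group

`Tors J x₀ Γ`: `Γ` acts on the object `x₀`, and `x₀ → *` is a `Γ`-torsor.  `comp_ext`: the Ext groups of the constant sheaf
`ℤ` with values in `F` are the group cohomology of `F x₀`, for `F` acyclic on `x₀`.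
-/

set_option autoImplicit false
set_option backward.isDefEq.respectTransparency false

universe w v u

open CategoryTheory CategoryTheory.Limits CategoryTheory.Abelian Opposite Groth.Agent.Etrest.FppfCoch K289.GrpCoch

namespace K289.TorsSite

variable {C : Type (u + 1)} [Category.{u} C]

/-- `x₀ → *` is a torsor under `Γ`. -/
structure Tors (J : GrothendieckTopology C) (x₀ : C) (Γ : Type w) [Group Γ] where
  /-- the action -/
  a : Γ → (x₀ ⟶ x₀)
  a_one : a 1 = 𝟙 _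
  a_mul : ∀ g h, a (g * h) = a g ≫ a h
  cov : ∀ y : C, ∃ R ∈ J y, ∀ ⦃W : C⦄ (f : W ⟶ y), R f → Nonempty (W ⟶ x₀)
  dec : ∀ {y : C} (v w : y ⟶ x₀), ∃ R ∈ J y, ∀ ⦃W : C⦄ (f : W ⟶ y), R f → ∃ g, f ≫ w = f ≫ v ≫ a g
  free : ∀ {y : C} (v : y ⟶ x₀) (g : Γ), v ≫ a g = v → g = 1 ∨ ⊥ ∈ J y

variable {J : GrothendieckTopology C} {x₀ : C} {Γ : Type w} [Group Γ] (τ : Tors J x₀ Γ)

/-- The action on sections over `x₀`. -/
def Tors.rho (P : Cᵒᵖ ⥤ AddCommGrpCat.{v}) : Γ →* AddMonoid.End (P.obj (op x₀)) where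
  toFun g := (P.map (τ.a g).op).hom
  map_one' := by
    rw [τ.a_one, op_id, P.map_id]; rfl
  map_mul' g h := by
    rw [τ.a_mul, op_comp, P.map_comp]; rfl

theorem Tors.rho_apply (P : Cᵒᵖ ⥤ AddCommGrpCat.{v}) (g : Γ) (s : P.obj (op x₀)) :
    τ.rho P g s = P.map (τ.a g).op s := rfl

theorem nat_apply {P Q : Cᵒᵖ ⥤ AddCommGrpCat.{v}} (α : P ⟶ Q) {A B : C} (f : A ⟶ B)
    (s : P.obj (op B)) : α.app (op A) (P.map f.op s) = Q.map f.op (α.app (op B) s) := by
  rw [← ConcreteCategory.comp_apply, α.naturality, ConcreteCategory.comp_apply]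

theorem map_map_apply (P : Cᵒᵖ ⥤ AddCommGrpCat.{v}) {A B D : C} (f : A ⟶ B) (g : B ⟶ D)
    (s : P.obj (op D)) : P.map f.op (P.map g.op s) = P.map (f ≫ g).op s := by
  rw [op_comp, P.map_comp, ConcreteCategory.comp_apply]

section Norm

variable {P : Cᵒᵖ ⥤ AddCommGrpCat.{u + 1}}

open Classical in
include τ in
/-- a `Γ`-equivariant function on the maps to `x₀` -/
theorem Tors.exists_t (W : C) (hW : ⊥ ∉ J W) : ∃ t : (W ⟶ x₀) → Γ, ∀ v g, t (v ≫ τ.a g) = t v * g := by
  let r : Setoid (W ⟶ x₀) :=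
    { r := fun v w => ∃ g, w = v ≫ τ.a g
      iseqv :=
        { refl := fun v => ⟨1, by rw [τ.a_one, Category.comp_id]⟩
          symm := by
            rintro v w ⟨g, rfl⟩
            exact ⟨g⁻¹, by rw [Category.assoc, ← τ.a_mul, mul_inv_cancel, τ.a_one, Category.comp_id]⟩
          trans := by
            rintro v w z ⟨g, rfl⟩ ⟨h, rfl⟩
            exact ⟨g * h, by rw [τ.a_mul, Category.assoc]⟩ } }
  have h : ∀ v : W ⟶ x₀, ∃ g, v = (Quotient.out (s := r) ⟦v⟧) ≫ τ.a g := fun v => Quotient.mk_out (s := r) v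
  choose t ht using h
  refine ⟨t, fun v g => ?_⟩
  have h1 : (⟦v ≫ τ.a g⟧ : Quotient r) = ⟦v⟧ := (Quotient.sound (s := r) ⟨g, rfl⟩).symm
  have h2 := ht (v ≫ τ.a g)
  rw [h1] at h2
  have h3 := ht v
  generalize Quotient.out (s := r) ⟦v⟧ = v₀ at h2 h3
  have h4 : v₀ ≫ τ.a (t v * g) = v₀ ≫ τ.a (t (v ≫ τ.a g)) := by
    rw [← h2, τ.a_mul, ← Category.assoc, ← h3]
  have h5 : v₀ ≫ τ.a ((t v * g) * (t (v ≫ τ.a g))⁻¹) = v₀ := by
    rw [τ.a_mul, ← Category.assoc, h4, Category.assoc, ← τ.a_mul, mul_inv_cancel, τ.a_one, Category.comp_id]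
  have h6 := (τ.free v₀ _ h5).resolve_right hW
  exact (mul_inv_eq_one.1 h6).symm

open Classical in
/-- Sections over `x₀` of an injective presheaf are a relatively projective module. -/
theorem Tors.exists_norm [Fintype Γ] [Injective P] (hP : ∀ W, ⊥ ∈ J W → ∀ s : P.obj (op W), s = 0) :
    ∃ e : P.obj (op x₀) →+ P.obj (op x₀), ∀ s, ∑ g : Γ, τ.rho P g (e (τ.rho P g⁻¹ s)) = s := by
  let r : cofree P ⟶ P := Injective.factorThru (𝟙 P) (toCofree P)
  have hr : toCofree P ≫ r = 𝟙 P := Injective.comp_factorThru _ _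
  have hr' : ∀ s : P.obj (op x₀), r.app (op x₀) ((toCofree P).app (op x₀) s) = s := fun s => by
    rw [← ConcreteCategory.comp_apply, ← NatTrans.comp_app, hr]; rfl
  have ht : ∀ W : C, ∃ t : (W ⟶ x₀) → Γ, ⊥ ∉ J W → ∀ v g, t (v ≫ τ.a g) = t v * g := fun W => by
    by_cases hW : ⊥ ∈ J W
    · exact ⟨fun _ => 1, fun h => absurd hW h⟩
    · obtain ⟨t, h⟩ := τ.exists_t W hW
      exact ⟨t, fun _ => h⟩
  choose t ht using ht
  let E : (∀ (W : C) (_ : W ⟶ x₀), P.obj (op W)) →+ (∀ (W : C) (_ : W ⟶ x₀), P.obj (op W)) :=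
    { toFun := fun s W φ => if t W φ = 1 then s W φ else 0
      map_zero' := by
        funext W φ
        exact ite_self _
      map_add' := fun s s' => by
        funext W φ
        change (if t W φ = 1 then s W φ + s' W φ else 0) = (if t W φ = 1 then s W φ else 0) + (if t W φ = 1 then s' W φ else 0)
        split_ifs
        · rfl
        · rw [add_zero] }
  refine ⟨((r.app (op x₀)).hom.comp E).comp ((toCofree P).app (op x₀)).hom, fun s => ?_⟩
  have key : ∑ g : Γ, τ.rho (cofree P) g (E (τ.rho (cofree P) g⁻¹ ((toCofree P).app (op x₀) s))) =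
      (toCofree P).app (op x₀) s := by
    generalize (toCofree P).app (op x₀) s = c
    funext W φ
    change (∀ (W : C) (_ : W ⟶ x₀), P.obj (op W)) at c
    let ev : (∀ (W : C) (_ : W ⟶ x₀), P.obj (op W)) →+ P.obj (op W) :=
      { toFun := fun s => s W φ
        map_zero' := rfl
        map_add' := fun _ _ => rfl }
    refine (map_sum ev _ _).trans ?_
    have h1 : ∀ g : Γ, ev (τ.rho (cofree P) g (E (τ.rho (cofree P) g⁻¹ c))) =
        if t W (φ ≫ τ.a g) = 1 then c W ((φ ≫ τ.a g) ≫ τ.a g⁻¹) else 0 := fun g => rfl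
    have h2 : ∀ g : Γ, (φ ≫ τ.a g) ≫ τ.a g⁻¹ = φ := fun g => by
      rw [Category.assoc, ← τ.a_mul, mul_inv_cancel, τ.a_one, Category.comp_id]
    simp only [h1, h2]
    by_cases hW : ⊥ ∈ J W
    · exact (hP W hW _).trans (hP W hW _).symm
    · have h3 : ∀ g : Γ, t W (φ ≫ τ.a g) = 1 ↔ g = (t W φ)⁻¹ := fun g => by
        rw [ht W hW, mul_eq_one_iff_inv_eq, eq_comm]
      simp only [h3]
      rw [Finset.sum_ite_eq' Finset.univ]
      simp
  have h4 : ∀ (g : Γ) (c : (cofree P).obj (op x₀)), τ.rho P g (r.app (op x₀) c) =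
      r.app (op x₀) (τ.rho (cofree P) g c) := fun g c => (nat_apply r (τ.a g) c).symm
  have h5 : ∀ (g : Γ) (s : P.obj (op x₀)), (toCofree P).app (op x₀) (τ.rho P g s) =
      τ.rho (cofree P) g ((toCofree P).app (op x₀) s) := fun g s => nat_apply (toCofree P) (τ.a g) s
  have h6 : ∀ g : Γ, τ.rho P g ((((r.app (op x₀)).hom.comp E).comp ((toCofree P).app (op x₀)).hom) (τ.rho P g⁻¹ s)) =
      r.app (op x₀) (τ.rho (cofree P) g (E (τ.rho (cofree P) g⁻¹ ((toCofree P).app (op x₀) s)))) := fun g => by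
    rw [← h5]
    exact h4 g _
  simp only [h6]
  rw [← map_sum, key, hr']

end Norm

end K289.TorsSite
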