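import Groth.Agent.StCoh.K289.TorsSite
import Groth.Agent.StCoh.K289.ExtShift
import Mathlib.CategoryTheory.Abelian.GrothendieckAxioms.Sheaf

/-!
# Cohomology of a site with a torsor `x₀ → *` under a finite group, II
-/

set_option autoImplicit false
set_option backward.isDefEq.respectTransparency false

universe w w' v u

open CategoryTheory CategoryTheory.Limits CategoryTheory.Abelian Opposite Groth.Agent.Etrest.FppfCoch K289.GrpCoch

namespace K289.TorsSite

variable {C : Type (u + 1)} [Category.{u} C] {J : GrothendieckTopology C} [HasSheafify J AddCommGrpCat.{u + 1}]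

variable (J) in
/-- the constant sheaf `ℤ` -/
noncomputable abbrev ZJ : Sheaf J AddCommGrpCat.{u + 1} :=
  (constantSheaf J AddCommGrpCat.{u + 1}).obj (AddCommGrpCat.of (ULift ℤ))

section One

variable {F G : Sheaf J AddCommGrpCat.{u + 1}}

/-- the presheaf map of a morphism out of the constant sheaf -/
noncomputable def pre (f : ZJ J ⟶ F) :
    (Functor.const Cᵒᵖ).obj (AddCommGrpCat.of (ULift.{u + 1} ℤ)) ⟶ F.obj :=
  (sheafificationAdjunction J AddCommGrpCat.{u + 1}).homEquiv _ F f

/-- The sections `1` of a morphism out of the constant sheaf. -/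
noncomputable def one (f : ZJ J ⟶ F) (W : C) : F.obj.obj (op W) := (pre f).app (op W) (ULift.up 1 : ULift.{u + 1} ℤ)

theorem one_map (f : ZJ J ⟶ F) {W W' : C} (g : W' ⟶ W) : F.obj.map g.op (one f W) = one f W' := by
  have h := ConcreteCategory.congr_hom ((pre f).naturality g.op) (ULift.up 1 : ULift.{u + 1} ℤ)
  rw [ConcreteCategory.comp_apply, ConcreteCategory.comp_apply] at h
  exact h.symm

theorem pre_add (f g : ZJ J ⟶ F) : pre (f + g) = pre f + pre g := by
  rw [pre, Adjunction.homEquiv_unit, Functor.map_add, Preadditive.comp_add]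
  rfl

theorem pre_comp (f : ZJ J ⟶ F) (α : F ⟶ G) : pre (f ≫ α) = pre f ≫ α.hom := by
  rw [pre, Adjunction.homEquiv_naturality_right]
  rfl

theorem one_add (f g : ZJ J ⟶ F) (W : C) : one (f + g) W = one f W + one g W := by
  rw [one, pre_add]
  rfl

theorem one_comp (f : ZJ J ⟶ F) (α : F ⟶ G) (W : C) : one (f ≫ α) W = α.hom.app (op W) (one f W) := by
  rw [one, pre_comp]
  rfl

theorem one_injective {f g : ZJ J ⟶ F} (h : ∀ W, one f W = one g W) : f = g := by
  apply ((sheafificationAdjunction J AddCommGrpCat.{u + 1}).homEquiv _ F).injective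
  change pre f = pre g
  ext W n
  have h1 : ∀ k : ℤ, (ULift.up k : ULift.{u + 1} ℤ) = k • (ULift.up 1 : ULift.{u + 1} ℤ) := fun k => by
    apply ULift.ext
    simp
  obtain ⟨k⟩ := n
  change (pre f).app W (ULift.up k : ULift.{u + 1} ℤ) = (pre g).app W (ULift.up k : ULift.{u + 1} ℤ)
  rw [h1, map_zsmul, map_zsmul]
  exact congrArg (fun s => k • s) (h W.unop)

theorem exists_one (t : ∀ W : C, F.obj.obj (op W)) (ht : ∀ {W W' : C} (g : W' ⟶ W), F.obj.map g.op (t W) = t W') :
    ∃ f : ZJ J ⟶ F, ∀ W, one f W = t W := by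
  let φ (W : C) : ULift.{u + 1} ℤ →+ F.obj.obj (op W) :=
    ((zmultiplesHom (F.obj.obj (op W))) (t W)).comp (AddEquiv.ulift (α := ℤ)).toAddMonoidHom
  have hφ : ∀ (W : C) (k : ULift.{u + 1} ℤ), φ W k = k.down • t W := fun W k => rfl
  let p : (Functor.const Cᵒᵖ).obj (AddCommGrpCat.of (ULift.{u + 1} ℤ)) ⟶ F.obj :=
    { app := fun W => AddCommGrpCat.ofHom (φ W.unop)
      naturality := fun W W' g => by
        ext k
        change φ W'.unop k = F.obj.map g (φ W.unop k)
        rw [hφ, hφ, map_zsmul]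
        exact congrArg (fun s => k.down • s) (ht g.unop).symm }
  refine ⟨((sheafificationAdjunction J AddCommGrpCat.{u + 1}).homEquiv _ F).symm p, fun W => ?_⟩
  rw [one, pre, Equiv.apply_symm_apply]
  change φ W (ULift.up 1) = t W
  rw [hφ]
  exact one_zsmul _

end One

variable {x₀ : C} {Γ : Type w} [Group Γ] (τ : Tors J x₀ Γ) (F G : Sheaf J AddCommGrpCat.{u + 1})

omit [HasSheafify J AddCommGrpCat.{u + 1}] in
theorem isSheaf_ty {P : Cᵒᵖ ⥤ AddCommGrpCat.{u + 1}} (hP : Presheaf.IsSheaf J P) :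
    Presieve.IsSheaf J (P ⋙ forget AddCommGrpCat.{u + 1}) :=
  (isSheaf_iff_isSheaf_of_type _ _).1 ((Presheaf.isSheaf_iff_isSheaf_forget J P (forget AddCommGrpCat.{u + 1})).1 hP)

theorem eq_of_cover {P : Cᵒᵖ ⥤ AddCommGrpCat.{u + 1}} (hP : Presheaf.IsSheaf J P) {W : C} {R : Sieve W} (hR : R ∈ J W)
    {s s' : P.obj (op W)} (h : ∀ ⦃V : C⦄ (f : V ⟶ W), R f → P.map f.op s = P.map f.op s') : s = s' :=
  ((isSheaf_ty hP).isSeparated _ hR).ext h

theorem eq_zero_of_bot {P : Cᵒᵖ ⥤ AddCommGrpCat.{u + 1}} (hP : Presheaf.IsSheaf J P) {W : C} (hW : ⊥ ∈ J W)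
    (s : P.obj (op W)) : s = 0 := eq_of_cover hP hW (fun _ _ h => h.elim)

/-- global sections are invariant sections over `x₀` -/
noncomputable def θ : (ZJ J ⟶ F) →+ Z (τ.rho F.obj) 0 where
  toFun f := ⟨fun _ => one f x₀, fun g x => (one_map f (τ.a g)).symm, fun x => by
    rw [dS_zero_eq, sub_self]⟩
  map_zero' := Subtype.ext (funext fun _ => by
    have h := one_add (0 : ZJ J ⟶ F) 0 x₀
    rw [add_zero] at h
    exact left_eq_add.1 h)
  map_add' f g := Subtype.ext (funext fun _ => one_add f g x₀)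

variable {F G}

theorem θ_comp (f : ZJ J ⟶ F) (α : F ⟶ G) (h : ∀ g s, (α.hom.app (op x₀)).hom (τ.rho F.obj g s) =
      τ.rho G.obj g ((α.hom.app (op x₀)).hom s)) :
    θ τ G (f ≫ α) = Z.map (α.hom.app (op x₀)).hom h 0 (θ τ F f) :=
  Subtype.ext (funext fun _ => one_comp f α x₀)

theorem θ_bijective : Function.Bijective (θ τ F) := by
  constructor
  · rw [injective_iff_map_eq_zero]
    intro f hf
    have h0 : one f x₀ = 0 := congrFun (congrArg Subtype.val hf) (fun _ => 1)
    have hz : ∀ W, one (0 : ZJ J ⟶ F) W = 0 := fun W => by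
      have h := one_add (0 : ZJ J ⟶ F) 0 W
      rw [add_zero] at h
      exact left_eq_add.1 h
    apply one_injective
    intro W
    rw [hz]
    obtain ⟨R, hR, h⟩ := τ.cov W
    refine eq_of_cover F.property hR fun V g hg => ?_
    obtain ⟨v⟩ := h g hg
    rw [one_map, map_zero, ← one_map f v, h0, map_zero]
  · rintro ⟨c, hc, hd⟩
    let s : F.obj.obj (op x₀) := c (fun _ => 1)
    have hcs : ∀ x, c x = s := by
      intro x
      have h1 := hd (Fin.cons 1 x)
      rw [dS_zero_eq, sub_eq_zero] at h1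
      have h2 : x = fun _ => (Fin.cons 1 x : Fin 2 → Γ) 1 := by
        funext i
        obtain rfl : i = 0 := Fin.fin_one_eq_zero i
        rfl
      rw [h2, h1]
      rfl
    have hs : ∀ g, F.obj.map (τ.a g).op s = s := fun g => by
      have h1 := hc g (fun _ => 1)
      rw [hcs] at h1
      exact h1.symm
    -- independence of the map to `x₀`
    have hind : ∀ {W : C} (v w : W ⟶ x₀), F.obj.map v.op s = F.obj.map w.op s := by
      intro W v w
      obtain ⟨R, hR, h⟩ := τ.dec v w
      refine eq_of_cover F.property hR fun V g hg => ?_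
      obtain ⟨γ, hγ⟩ := h g hg
      rw [map_map_apply, map_map_apply, hγ, ← Category.assoc, ← map_map_apply F.obj (g ≫ v) (τ.a γ), hs]
    -- gluing
    have hex : ∀ W : C, ∃ t : F.obj.obj (op W), ∀ {V : C} (g : V ⟶ W) (v : V ⟶ x₀),
        F.obj.map g.op t = F.obj.map v.op s := by
      intro W
      let R : Sieve W :=
        { arrows := fun V _ => Nonempty (V ⟶ x₀)
          downward_closed := by
            rintro V V' f ⟨v⟩ g
            exact ⟨g ≫ v⟩ }
      have hR : R ∈ J W := by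
        obtain ⟨R', hR', h⟩ := τ.cov W
        exact J.superset_covering (fun V f hf => h f hf) hR'
      let fam : Presieve.FamilyOfElements (F.obj ⋙ forget AddCommGrpCat.{u + 1}) R.arrows :=
        fun V f hf => F.obj.map (Classical.choice (show Nonempty (V ⟶ x₀) from hf)).op s
      have hcomp : fam.Compatible := by
        intro Y₁ Y₂ Z g₁ g₂ f₁ f₂ h₁ h₂ h
        change F.obj.map g₁.op (F.obj.map _ s) = F.obj.map g₂.op (F.obj.map _ s)
        rw [map_map_apply, map_map_apply]
        exact hind _ _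
      obtain ⟨t, ht, -⟩ := (isSheaf_ty F.property) R hR fam hcomp
      refine ⟨t, fun {V} g v => ?_⟩
      have hv : R g := ⟨v⟩
      have h1 : F.obj.map g.op t = F.obj.map (Classical.choice (show Nonempty (V ⟶ x₀) from hv)).op s := ht g hv
      rw [h1]
      exact hind _ _
    choose t ht using hex
    obtain ⟨f, hf⟩ := exists_one t (fun {W W'} g => by
      obtain ⟨R, hR, h⟩ := τ.cov W'
      refine eq_of_cover F.property hR fun V k hk => ?_
      obtain ⟨v⟩ := h k hk
      rw [map_map_apply, ht _ (k ≫ g) v, ht _ k v])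
    refine ⟨f, Subtype.ext (funext fun x => ?_)⟩
    change one f x₀ = c x
    rw [hf, hcs]
    have h1 := ht x₀ (𝟙 x₀) (𝟙 x₀)
    rw [op_id, F.obj.map_id] at h1
    exact h1

variable (F) in
/-- global sections are invariant sections over `x₀` -/
noncomputable def θe : (ZJ J ⟶ F) ≃+ Z (τ.rho F.obj) 0 := AddEquiv.ofBijective (θ τ F) (θ_bijective τ)

section Exact

variable {S : ShortComplex (Sheaf J AddCommGrpCat.{u + 1})}

theorem exact_app (hS : S.ShortExact) (W : C) :
    Function.Injective (S.f.hom.app (op W)) ∧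
      ∀ s, S.g.hom.app (op W) s = 0 ↔ ∃ t, S.f.hom.app (op W) t = s := by
  have hm := hS.mono_f
  let Φ : Sheaf J AddCommGrpCat.{u + 1} ⥤ AddCommGrpCat.{u + 1} := sheafToPresheaf _ _ ⋙ (evaluation _ _).obj (op W)
  have h1 : PreservesFiniteLimits Φ := inferInstance
  have hm' : Mono (Φ.map S.f) := inferInstance
  have hex := hS.exact.map_of_mono_of_preservesKernel Φ inferInstance inferInstance
  refine ⟨(AddCommGrpCat.mono_iff_injective _).1 hm', fun s => ⟨fun hs => (ShortComplex.ab_exact_iff _).1 hex s hs, ?_⟩⟩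
  rintro ⟨t, rfl⟩
  have h1 : S.f.hom ≫ S.g.hom = 0 := congrArg (fun k => k.hom) S.zero
  exact ConcreteCategory.congr_hom (NatTrans.congr_app h1 (op W)) t

end Exact

theorem injective_obj (I : Sheaf J AddCommGrpCat.{u + 1}) [Injective I] : Injective I.obj :=
  Injective.injective_of_adjoint (sheafificationAdjunction J AddCommGrpCat.{u + 1}) I

/-- The cohomology of `F`, acyclic over `x₀`, is the group cohomology of `F x₀`. -/
theorem comp_ext [Fintype Γ] [EnoughInjectives (Sheaf J AddCommGrpCat.{u + 1})]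
    [HasExt.{w'} (Sheaf J AddCommGrpCat.{u + 1})] (P : Sheaf J AddCommGrpCat.{u + 1} → Prop)
    (hP : ∀ S : ShortComplex (Sheaf J AddCommGrpCat.{u + 1}), S.ShortExact → Injective S.X₂ → P S.X₁ →
      P S.X₃ ∧ Function.Surjective (S.g.hom.app (op x₀)))
    (hF : P F) (n : ℕ) : Comp (τ.rho F.obj) n (Ext.{w'} (ZJ J) F (n + 1)) := by
  induction n generalizing F with
  | zero =>
    let S : ShortComplex (Sheaf J AddCommGrpCat.{u + 1}) :=
      ShortComplex.mk (Injective.ι F) (cokernel.π (Injective.ι F)) (cokernel.condition _)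
    have hS : S.ShortExact :=
      { exact := ShortComplex.exact_of_g_is_cokernel _ (cokernelIsCokernel _)
        mono_f := by change Mono (Injective.ι F); infer_instance
        epi_g := by change Epi (cokernel.π _); infer_instance }
    have hI : Injective S.X₂ := by change Injective (Injective.under F); infer_instance
    obtain ⟨hQ, hsurj⟩ := hP S hS hI hF
    have hI' := injective_obj S.X₂
    obtain ⟨e, he⟩ := τ.exists_norm (P := S.X₂.obj) (fun W hW s => eq_zero_of_bot S.X₂.property hW s)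
    have hB : ∀ z ∈ Z (τ.rho S.X₂.obj) (0 + 1), IsCobd (τ.rho S.X₂.obj) z := fun z hz => isCobd_of_norm e he z hz
    have hi : ∀ g a, (S.f.hom.app (op x₀)).hom (τ.rho S.X₁.obj g a) = τ.rho S.X₂.obj g ((S.f.hom.app (op x₀)).hom a) :=
      fun g a => nat_apply S.f.hom (τ.a g) a
    have hπ : ∀ g a, (S.g.hom.app (op x₀)).hom (τ.rho S.X₂.obj g a) = τ.rho S.X₃.obj g ((S.g.hom.app (op x₀)).hom a) :=
      fun g a => nat_apply S.g.hom (τ.a g) a
    obtain ⟨hinj, hex⟩ := exact_app hS x₀
    refine shift (ρA := τ.rho S.X₁.obj) (ρB := τ.rho S.X₂.obj) (ρC := τ.rho S.X₃.obj) (S.f.hom.app (op x₀)).hom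
      (S.g.hom.app (op x₀)).hom hi hπ hinj hsurj hex hB
      ((ExtShift.δ₀ hS (ZJ J)).comp (θe τ S.X₃).symm.toAddMonoidHom)
      ((ExtShift.δ₀_surjective hS (ZJ J)).comp (θe τ S.X₃).symm.surjective) fun c => ?_
    change ExtShift.δ₀ hS (ZJ J) ((θe τ S.X₃).symm c) = 0 ↔ _
    rw [ExtShift.δ₀_eq_zero_iff]
    constructor
    · rintro ⟨g, hg⟩
      refine ⟨θ τ S.X₂ g, ?_⟩
      rw [← θ_comp τ g S.g hπ, hg]
      exact (θe τ S.X₃).apply_symm_apply c
    · rintro ⟨b, rfl⟩
      obtain ⟨g, rfl⟩ := (θ_bijective τ).2 b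
      refine ⟨g, ?_⟩
      rw [← θ_comp τ g S.g hπ]
      exact ((θe τ S.X₃).symm_apply_apply _).symm
  | succ n ih =>
    let S : ShortComplex (Sheaf J AddCommGrpCat.{u + 1}) :=
      ShortComplex.mk (Injective.ι F) (cokernel.π (Injective.ι F)) (cokernel.condition _)
    have hS : S.ShortExact :=
      { exact := ShortComplex.exact_of_g_is_cokernel _ (cokernelIsCokernel _)
        mono_f := by change Mono (Injective.ι F); infer_instance
        epi_g := by change Epi (cokernel.π _); infer_instance }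
    have hI : Injective S.X₂ := by change Injective (Injective.under F); infer_instance
    obtain ⟨hQ, hsurj⟩ := hP S hS hI hF
    have hI' := injective_obj S.X₂
    obtain ⟨e, he⟩ := τ.exists_norm (P := S.X₂.obj) (fun W hW s => eq_zero_of_bot S.X₂.property hW s)
    have hi : ∀ g a, (S.f.hom.app (op x₀)).hom (τ.rho S.X₁.obj g a) = τ.rho S.X₂.obj g ((S.f.hom.app (op x₀)).hom a) :=
      fun g a => nat_apply S.f.hom (τ.a g) a
    have hπ : ∀ g a, (S.g.hom.app (op x₀)).hom (τ.rho S.X₂.obj g a) = τ.rho S.X₃.obj g ((S.g.hom.app (op x₀)).hom a) :=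
      fun g a => nat_apply S.g.hom (τ.a g) a
    obtain ⟨hinj, hex⟩ := exact_app hS x₀
    obtain ⟨φ, h1, h2⟩ := ih hQ
    obtain ⟨ε⟩ := ExtShift.nonempty_equiv hS (ZJ J) n
    have hB : ∀ {k : ℕ}, ∀ z ∈ Z (τ.rho S.X₂.obj) (k + 1), IsCobd (τ.rho S.X₂.obj) z :=
      fun z hz => isCobd_of_norm e he z hz
    refine Comp.of_equiv ε (shift (ρA := τ.rho S.X₁.obj) (ρB := τ.rho S.X₂.obj) (ρC := τ.rho S.X₃.obj)
      (S.f.hom.app (op x₀)).hom (S.g.hom.app (op x₀)).hom hi hπ hinj hsurj hex hB φ h1 fun c => ?_)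
    rw [h2]
    exact cobd_iff (S.g.hom.app (op x₀)).hom hπ hsurj hB c

end K289.TorsSite
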